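import Cfsg.Agent.SLShort.Cover

/-!
# The stabiliser of two points in `Alt(n)`
-/

set_option autoImplicit false

namespace Cfsg.Agent.SLShort

open Equiv Equiv.Perm Cfsg.Agent.AltMult

universe u

variable {n : ℕ}

theorem data_large (hn : 4 ≤ n) (h5 : 5 ≤ n) :
    ∃ D : Finset (alternatingGroup (Fin n) × Bool × Bool), D.card ≤ 3 ∧
      StabData.{u} (MonoidHom.id (alternatingGroup (Fin n))) hn D := by
  classical
  let a : Fin n := z hn 0
  let b : Fin n := z hn 1
  have hab : a ≠ b := (z_injective hn).ne (by decide)
  let sw : Perm (Fin n) := swap a b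
  let R := {x : Fin n // x ≠ a ∧ x ≠ b}
  let κ (σ : Perm R) : Perm (Fin n) :=
    ofSubtype σ * if sign σ = 1 then 1 else sw
  have hcomm : ∀ σ : Perm R, Commute (ofSubtype σ) sw := by
    intro σ
    have e : ∀ x, (x = a ∨ x = b) → ofSubtype σ x = x := fun x hx =>
      ofSubtype_apply_of_not_mem σ (by rintro ⟨x0, x1⟩; rcases hx with h | h; exacts [x0 h, x1 h])
    refine mul_inv_eq_iff_eq_mul.mp ?_
    rw [← Equiv.swap_apply_apply, e a (Or.inl rfl), e b (Or.inr rfl)]
  let M : Perm R →* alternatingGroup (Fin n) :=
    { toFun := fun σ => ⟨κ σ, mem_alternatingGroup.mpr (by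
        simp only [κ, map_mul, sign_ofSubtype]
        rcases Int.units_eq_one_or (sign σ) with h | h
        · rw [h, if_pos rfl, map_one, one_mul]
        · rw [h, if_neg (by decide), sign_swap hab]; rfl)⟩
      map_one' := Subtype.ext (by simp [κ])
      map_mul' := fun σ τ => Subtype.ext (by
        show κ (σ * τ) = κ σ * κ τ
        simp only [κ, map_mul]
        rcases Int.units_eq_one_or (sign σ) with h | h <;>
          rcases Int.units_eq_one_or (sign τ) with h' | h'
        · simp [h, h']
        · simp [h, h', mul_assoc]
        · simp only [h, h', mul_one, if_neg (show ¬((-1 : ℤˣ) = 1) by decide), if_true]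
          rw [mul_assoc, mul_assoc, (hcomm τ).eq]
        · simp only [h, h', show (-1 : ℤˣ) * -1 = 1 by decide, if_true,
            if_neg (show ¬((-1 : ℤˣ) = 1) by decide), mul_one]
          rw [mul_assoc _ sw, ← mul_assoc sw, ← (hcomm τ).eq, mul_assoc, swap_mul_self, mul_one]) }
  have hM : ∀ σ, Moves (MonoidHom.id (alternatingGroup (Fin n))) hn (M σ) (decide (sign σ = -1)) := by
    intro σ
    have e : ∀ x, (x = a ∨ x = b) → ofSubtype σ x = x := fun x hx =>
      ofSubtype_apply_of_not_mem σ (by rintro ⟨x0, x1⟩; rcases hx with h | h; exacts [x0 h, x1 h])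
    show (κ σ) a = _ ∧ (κ σ) b = _
    simp only [κ]
    rcases Int.units_eq_one_or (sign σ) with h | h
    · rw [h, if_pos rfl, mul_one]
      simp [e a (Or.inl rfl), e b (Or.inr rfl), a, b]
    · rw [h, if_neg (by decide)]
      simp [sw, e a (Or.inl rfl), e b (Or.inr rfl)]
      exact ⟨rfl, rfl⟩
  have hcard : Fintype.card R + 2 = n := by
    have h : (Finset.univ.filter fun x : Fin n => x ≠ a ∧ x ≠ b) =
        (Finset.univ : Finset (Fin n)) \ {a, b} := by
      ext x; simp
    have := Finset.card_le_univ ({a, b} : Finset (Fin n))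
    rw [Fintype.card_subtype, h, Finset.card_sdiff_of_subset (Finset.subset_univ _),
      Finset.card_pair hab, Finset.card_univ, Fintype.card_fin]
    omega
  obtain ⟨m, hm⟩ : ∃ m, Fintype.card R = m + 2 := ⟨Fintype.card R - 2, by omega⟩
  let e : Fin (m + 2) ≃ R := (Fintype.equivFinOfCardEq hm).symm
  let c : Perm R := e.permCongrHom (finRotate (m + 2))
  let s : Perm R := e.permCongrHom (swap 0 (finRotate (m + 2) 0))
  have hgen : Subgroup.closure ({c, s} : Set (Perm R)) = ⊤ := by
    rw [show ({c, s} : Set (Perm R)) =
        e.permCongrHom.toMonoidHom '' {finRotate (m + 2), swap 0 (finRotate (m + 2) 0)} by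
      simp [Set.image_pair, c, s], ← MonoidHom.map_closure,
      closure_cycle_adjacent_swap isCycle_finRotate support_finRotate (0 : Fin (m + 2)),
      ← MonoidHom.range_eq_map]
    exact MonoidHom.range_eq_top.mpr e.permCongrHom.surjective
  have hs1 : sign s = -1 := by
    show sign (e.permCongr _) = -1
    rw [sign_permCongr, sign_swap]
    rw [finRotate_apply]
    simp
  have hs2 : s * s = 1 := by
    show e.permCongrHom _ * e.permCongrHom _ = 1
    rw [← map_mul, swap_mul_self, map_one]
  refine ⟨{(M s, true, false), (M c, decide (sign c = -1), false), (M c, decide (sign c = -1), true)},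
    Finset.card_le_three, ⟨fun d hd => ?_, fun {Q} _ φ P hrel h β γ hmv => ?_⟩⟩
  · simp only [Finset.mem_insert, Finset.mem_singleton] at hd
    rcases hd with rfl | rfl | rfl
    · have := hM s
      rwa [show decide (sign s = -1) = true from decide_eq_true hs1] at this
    · exact hM c
    · exact hM c
  · have hsa : Acts φ P (M s) true := by
      have hg : φ (M s) * P false * (φ (M s))⁻¹ = P true := hrel (M s, true, false) (by simp)
      refine swap_of_rel hg ?_
      rw [← hg, show φ (M s) * (φ (M s) * P false * (φ (M s))⁻¹) * (φ (M s))⁻¹ =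
        (φ (M s) * φ (M s)) * P false * (φ (M s) * φ (M s))⁻¹ by group, ← map_mul, ← map_mul,
        hs2, map_one, map_one]
      group
    have hca : Acts φ P (M c) (decide (sign c = -1)) := fun e => by
      cases e
      · exact hrel (M c, decide (sign c = -1), false) (by simp)
      · exact hrel (M c, decide (sign c = -1), true) (by simp)
    have hall : ∀ σ, Acts φ P (M σ) (decide (sign σ = -1)) := by
      intro σ
      have hσ : σ ∈ Subgroup.closure ({c, s} : Set (Perm R)) := hgen ▸ Subgroup.mem_top σ
      induction hσ using Subgroup.closure_induction with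
      | mem y hy =>
        rcases hy with rfl | rfl
        · exact hca
        · rwa [show decide (sign s = -1) = true from decide_eq_true hs1]
      | one => rw [map_one, map_one]; exact acts_one
      | mul x y _ _ hx hy =>
        have := hx.mul hy
        rw [← map_mul] at this
        convert this using 1
        rcases Int.units_eq_one_or (sign x) with h1 | h1 <;>
          rcases Int.units_eq_one_or (sign y) with h2 | h2 <;> simp [map_mul, h1, h2]
      | inv x _ hx =>
        have := hx.inv
        rw [← map_inv] at this
        rwa [sign_inv]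
    obtain ⟨m0, m1⟩ := hmv
    -- `h` comes from a permutation of the remaining points
    obtain ⟨σ, hσ, hsσ⟩ : ∃ σ : Perm R, M σ = h ∧ decide (sign σ = -1) = β := by
      let g : Perm (Fin n) := h.1 * if β then sw else 1
      have hga : g a = a ∧ g b = b := by
        cases β
        · exact ⟨m0, m1⟩
        · constructor
          · show h.1 (sw a) = a
            rw [show sw a = b from swap_apply_left _ _]; exact m1
          · show h.1 (sw b) = b
            rw [show sw b = a from swap_apply_right _ _]; exact m0
      have hgi : ∀ x, (g x ≠ a ∧ g x ≠ b) ↔ (x ≠ a ∧ x ≠ b) := fun x => by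
        constructor
        · rintro ⟨x0, x1⟩
          exact ⟨fun h => x0 (h ▸ hga.1), fun h => x1 (h ▸ hga.2)⟩
        · rintro ⟨x0, x1⟩
          exact ⟨fun h => x0 (g.injective (h.trans hga.1.symm)),
            fun h => x1 (g.injective (h.trans hga.2.symm))⟩
      have hmove : ∀ x, g x ≠ x → x ≠ a ∧ x ≠ b := fun x hx =>
        ⟨fun h => hx (h ▸ hga.1), fun h => hx (h ▸ hga.2)⟩
      let g' : Perm R := g.subtypePerm hgi
      have hg' : ofSubtype g' = g := ofSubtype_subtypePerm hgi hmove
      have hsg : sign g' = if β then -1 else 1 := by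
        rw [← sign_ofSubtype g', hg', map_mul, mem_alternatingGroup.mp h.2, one_mul]
        cases β <;> simp [sw, sign_swap hab]
      refine ⟨g', Subtype.ext ?_, by cases β <;> simp [hsg]⟩
      show κ g' = h.1
      simp only [κ, hg', hsg]
      cases β
      · simp [g]
      · simp [g, sw, mul_assoc]
    exact hσ ▸ hsσ ▸ hall σ γ

end Cfsg.Agent.SLShort
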