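import Cfsg.Agent.SLShort.Cover
import Cfsg.Agent.Classical.A5InPSL
import Cfsg.Agent.FPF25.Sl25
import Cfsg.Agent.ShortPres.Shift.Tiny

/-!
# The covers of `Alt(4)` and `Alt(5)`
-/

set_option autoImplicit false

namespace Cfsg.Agent.SLShort

open Equiv Equiv.Perm Cfsg.Agent.AltMult Cfsg.Agent.ShortPres.Shift

universe u

theorem bound_five (K : Type) [Group K] (x y : K) (hx : x ^ 3 = 1) (hy : y ^ 5 = 1)
    (hxy : (x * y) ^ 2 = 1) (htop : Subgroup.closure ({x, y} : Set K) = ⊤) :
    Finite K ∧ Nat.card K ≤ Nat.card (alternatingGroup (Fin 5)) := by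
  classical
  have : Fact (Nat.Prime 5) := ⟨Nat.prime_five⟩
  obtain ⟨f, f1, f2, f3⟩ := Classical.A5InPSL.exists_hom hx hy hxy
  have hs : Function.Surjective f := by
    rw [← MonoidHom.range_eq_top, eq_top_iff, ← htop, Subgroup.closure_le]
    rintro t (rfl | rfl)
    exacts [⟨_, f1⟩, ⟨_, f2⟩]
  have hfin : Finite K := Finite.of_surjective f hs
  refine ⟨hfin, ?_⟩
  have h2 : 2 ≤ Nat.card f.ker := by
    have hne : (-1 : Matrix.SpecialLinearGroup (Fin 2) (ZMod 5)) ≠ 1 := by decide
    have : Nontrivial f.ker := ⟨⟨⟨-1, f3⟩, 1, fun h => hne (congrArg Subtype.val h)⟩⟩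
    exact Finite.one_lt_card
  have hc := Subgroup.card_eq_card_quotient_mul_card_subgroup f.ker
  rw [Cfsg.Agent.FPF25.card_sl25,
    Nat.card_congr (QuotientGroup.quotientKerEquivOfSurjective f hs).toEquiv] at hc
  have hA := two_mul_nat_card_alternatingGroup (α := Fin 5)
  rw [Nat.card_perm, Nat.card_fin] at hA
  have h120 : Nat.factorial 5 = 120 := rfl
  have := Nat.mul_le_mul_left (Nat.card K) h2
  omega

theorem bound_four (K : Type) [Group K] (x y : K) (hx : x ^ 3 = 1) (hy : y ^ 3 = 1)
    (hxy : (x * y) ^ 2 = 1) (htop : Subgroup.closure ({x, y} : Set K) = ⊤) :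
    Finite K ∧ Nat.card K ≤ Nat.card (alternatingGroup (Fin 4)) := by
  obtain ⟨hfin, hle⟩ := Cfsg.Agent.ShortPres.finite_closure_range ![x, y]
    (fun i => by fin_cases i <;> simpa)
    (fun i j h => by
      fin_cases i <;> fin_cases j
      · exact absurd rfl h
      · simpa using hxy
      · simpa using Cfsg.Agent.ShortPres.sq_flip hxy
      · exact absurd rfl h)
  rw [Matrix.range_cons, Matrix.range_cons, Matrix.range_empty, Set.union_empty,
    ← Set.insert_eq, htop] at hle hfin
  have hK : Finite K := Finite.of_equiv _ Subgroup.topEquiv.toEquiv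
  rw [Nat.card_congr Subgroup.topEquiv.toEquiv, Fintype.card_fin] at hle
  have hA := two_mul_nat_card_alternatingGroup (α := Fin 4)
  rw [Nat.card_perm, Nat.card_fin] at hA
  exact ⟨hK, by norm_num [Nat.factorial] at hle hA ⊢; omega⟩

/-- `Alt(4)`: the images of the generators. -/
def x4 : alternatingGroup (Fin 4) := cycA 0 1 2 (by decide) (by decide)
/-- `Alt(4)`: the second generator. -/
def y4 : alternatingGroup (Fin 4) := cycA 0 1 3 (by decide) (by decide)
/-- `Alt(4)`: the involution fixing the first two points as a set. -/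
def t4 : alternatingGroup (Fin 4) := ⟨swap 0 1 * swap 2 3, mem_alternatingGroup.mpr (by decide)⟩

theorem facts_four : x4 ^ 3 = 1 ∧ y4 ^ 3 = 1 ∧ (x4 * y4) ^ 2 = 1 ∧
    cycA 2 1 3 (by decide) (by decide) * (x4 * y4) * (cycA 2 1 3 (by decide) (by decide))⁻¹ = t4 ∧
    (∀ g : alternatingGroup (Fin 4), g.1 0 = 0 → g.1 1 = 1 → g = 1) ∧
    ∀ g : alternatingGroup (Fin 4), g.1 0 = 1 → g.1 1 = 0 → g = t4 := by
  refine ⟨by decide, by decide, by decide, by decide, ?_, ?_⟩
  · have h : ∀ g : Perm (Fin 4), g 0 = 0 → g 1 = 1 → sign g = 1 → g = 1 := by decide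
    exact fun g a b => Subtype.ext (h g.1 a b (mem_alternatingGroup.mp g.2))
  · have h : ∀ g : Perm (Fin 4), g 0 = 1 → g 1 = 0 → sign g = 1 → g = t4.1 := by decide
    exact fun g a b => Subtype.ext (h g.1 a b (mem_alternatingGroup.mp g.2))

theorem data_four : ∃ (H : Type) (_ : Group H) (π : H →* alternatingGroup (Fin 4))
    (f : FreeGroup (Fin 2) →* H) (D : Finset (H × Bool × Bool)),
    Function.Surjective π ∧ Function.Surjective f ∧
    (∃ R : Finset (FreeGroup (Fin 2)), R.card ≤ 2 ∧ f.ker = Subgroup.normalClosure (R : Set _)) ∧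
    π (f (FreeGroup.of 0)) = x4 ∧ Subgroup.normalClosure ({f (FreeGroup.of 0)} : Set H) = ⊤ ∧
    D.card ≤ 2 ∧ StabData.{u} π (le_refl 4) D := by
  classical
  obtain ⟨f1, f2, f3, f4, f5, f6⟩ := facts_four
  obtain ⟨π, hx, hy⟩ := cover_hom x4 y4 f1 f2 f3
  have hπ : Function.Surjective π := by
    rw [← MonoidHom.range_eq_top, eq_top_iff]
    have e : (⊤ : Subgroup (alternatingGroup (Fin 4))) = Subgroup.closure {x4, y4} := by
      rw [eq_comm]
      refine closure_cycA_eq_top (u := (0 : Fin 4)) (v := 1) (by decide) _ fun i h0 h1 => ?_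
      have : i = 2 ∨ i = 3 := by omega
      rcases this with rfl | rfl
      · exact Subgroup.subset_closure (Or.inl rfl)
      · exact Subgroup.subset_closure (Or.inr rfl)
    rw [e, Subgroup.closure_le]
    rintro t (rfl | rfl)
    exacts [⟨_, hx⟩, ⟨_, hy⟩]
  obtain ⟨f, hf, hR, hf0⟩ := cover_pres (a := 3) (b := 3)
  obtain ⟨g, hg⟩ := hπ (cycA 2 1 3 (by decide) (by decide))
  set z : Cover 3 3 := cx ^ 3
  let t : Cover 3 3 := g * (cx * cy) * g⁻¹
  have hπt : π t = t4 := by
    simp only [t, map_mul, map_inv, hg, hx, hy]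
    exact f4
  have ht2 : t * t = z := by
    show g * (cx * cy) * g⁻¹ * (g * (cx * cy) * g⁻¹) = z
    rw [show g * (cx * cy) * g⁻¹ * (g * (cx * cy) * g⁻¹) = g * (cx * cy) ^ 2 * g⁻¹ by
      rw [pow_two]; group, ← cover_relations.1, (cover_central g).eq, mul_inv_cancel_right]
  have hker := cover_ker bound_four π hπ (by rw [hx]; exact f1)
  refine ⟨Cover 3 3, inferInstance, π, f, {(t, true, false), (t, true, true)}, hπ, hf, hR,
    by rw [hf0, hx], by rw [hf0]; exact cover_normal_top (by decide), Finset.card_le_two,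
    ⟨fun d hd => ?_, fun {Q} _ φ P hrel h b c hm => ?_⟩⟩
  · simp only [Finset.mem_insert, Finset.mem_singleton] at hd
    have hm : Moves π (le_refl 4) t true := by
      unfold Moves
      rw [hπt]
      exact ⟨rfl, rfl⟩
    rcases hd with rfl | rfl <;> exact hm
  · have ht : Acts φ P t true :=
      swap_of_rel (hrel (t, true, false) (by simp)) (hrel (t, true, true) (by simp))
    have hzf : Acts φ P z false := by
      have := ht.mul ht
      rwa [ht2, Bool.xor_self] at this
    have hsplit : ∀ h : Cover 3 3, π h = 1 → Acts φ P h false := fun h hh => by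
      obtain ⟨j, rfl⟩ := hker h hh
      exact hzf.zpow_fix j
    obtain ⟨m0, m1⟩ := hm
    cases b
    · exact hsplit h (f5 _ m0 m1) c
    · have h1 := ht.mul (hsplit (t⁻¹ * h) (by rw [map_mul, map_inv, hπt, f6 _ m0 m1, inv_mul_cancel]))
      rw [mul_inv_cancel_left, Bool.xor_false] at h1
      exact h1 c

/-- `Alt(5)`: the images of the generators. -/
def x5 : alternatingGroup (Fin 5) := cycA 0 1 2 (by decide) (by decide)
/-- `Alt(5)`: the second generator. -/
def y5 : alternatingGroup (Fin 5) := ⟨swap 0 3 * swap 3 2 * swap 2 1 * swap 1 4, mem_alternatingGroup.mpr (by decide)⟩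
/-- `Alt(5)`: conjugating element. -/
def g5 : alternatingGroup (Fin 5) := ⟨swap 1 3 * swap 2 4, mem_alternatingGroup.mpr (by decide)⟩
/-- `Alt(5)`: conjugating element. -/
def k5 : alternatingGroup (Fin 5) := ⟨swap 0 2 * swap 2 4 * swap 4 1 * swap 1 3, mem_alternatingGroup.mpr (by decide)⟩
/-- `Alt(5)`: the involution swapping the first two points. -/
def t5 : alternatingGroup (Fin 5) := ⟨swap 0 1 * swap 2 3, mem_alternatingGroup.mpr (by decide)⟩
/-- `Alt(5)`: the cycle fixing the first two points. -/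
def c5 : alternatingGroup (Fin 5) := cycA 2 3 4 (by decide) (by decide)

theorem facts_five : x5 ^ 3 = 1 ∧ y5 ^ 5 = 1 ∧ (x5 * y5) ^ 2 = 1 ∧
    g5 * (x5 * y5) * g5⁻¹ = t5 ∧ k5 * x5 * k5⁻¹ = c5 ∧ t5⁻¹ * c5 * t5 * c5 = 1 := by decide

set_option synthInstance.maxSize 1024 in
set_option synthInstance.maxHeartbeats 200000 in
theorem stab_five : (∀ g : alternatingGroup (Fin 5), g.1 0 = 0 → g.1 1 = 1 →
      g = 1 ∨ g = c5 ∨ g = c5 ^ 2) ∧
    ∀ g : alternatingGroup (Fin 5), g.1 0 = 1 → g.1 1 = 0 →
      g = t5 ∨ g = t5 * c5 ∨ g = t5 * c5 ^ 2 := by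
  constructor
  · have h : ∀ g : Perm (Fin 5), g 0 = 0 → g 1 = 1 → sign g = 1 →
        g = 1 ∨ g = c5.1 ∨ g = (c5 ^ 2).1 := by decide +kernel
    exact fun g a b => (h g.1 a b (mem_alternatingGroup.mp g.2)).imp Subtype.ext
      (Or.imp Subtype.ext Subtype.ext)
  · have h : ∀ g : Perm (Fin 5), g 0 = 1 → g 1 = 0 → sign g = 1 →
        g = t5.1 ∨ g = (t5 * c5).1 ∨ g = (t5 * c5 ^ 2).1 := by decide +kernel
    exact fun g a b => (h g.1 a b (mem_alternatingGroup.mp g.2)).imp Subtype.ext
      (Or.imp Subtype.ext Subtype.ext)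

theorem data_five : ∃ (H : Type) (_ : Group H) (π : H →* alternatingGroup (Fin 5))
    (f : FreeGroup (Fin 2) →* H) (D : Finset (H × Bool × Bool)),
    Function.Surjective π ∧ Function.Surjective f ∧
    (∃ R : Finset (FreeGroup (Fin 2)), R.card ≤ 2 ∧ f.ker = Subgroup.normalClosure (R : Set _)) ∧
    π (f (FreeGroup.of 0)) = x5 ∧ Subgroup.normalClosure ({f (FreeGroup.of 0)} : Set H) = ⊤ ∧
    D.card ≤ 2 ∧ StabData.{u} π (Nat.le_succ 4) D := by
  classical
  obtain ⟨f1, f2, f3, f4, f5, f6⟩ := facts_five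
  obtain ⟨π, hx, hy⟩ := cover_hom x5 y5 f1 f2 f3
  have hπ : Function.Surjective π := by
    rw [← MonoidHom.range_eq_top]
    have hsimple : IsSimpleGroup (alternatingGroup (Fin 5)) := alternatingGroup.isSimpleGroup (by simp)
    -- the range contains elements of order 2, 3 and 5
    have hxm : x5 ∈ π.range := ⟨_, hx⟩
    have hym : y5 ∈ π.range := ⟨_, hy⟩
    have h3 : orderOf x5 = 3 := orderOf_eq_prime (hp := ⟨Nat.prime_three⟩) f1 (by decide)
    have h5 : orderOf y5 = 5 := orderOf_eq_prime (hp := ⟨Nat.prime_five⟩) f2 (by decide)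
    have h2 : orderOf (x5 * y5) = 2 := orderOf_eq_prime f3 (by decide)
    have d : 30 ∣ Nat.card π.range := by
      have a3 := Subgroup.orderOf_dvd_natCard π.range hxm
      have a5 := Subgroup.orderOf_dvd_natCard π.range hym
      have a2 := Subgroup.orderOf_dvd_natCard π.range (mul_mem hxm hym)
      rw [h3] at a3; rw [h5] at a5; rw [h2] at a2
      exact Nat.Coprime.mul_dvd_of_dvd_of_dvd (m := 15) (n := 2) (by decide)
        (Nat.Coprime.mul_dvd_of_dvd_of_dvd (by decide) a3 a5) a2
    have hA := two_mul_nat_card_alternatingGroup (α := Fin 5)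
    rw [Nat.card_perm, Nat.card_fin, show Nat.factorial 5 = 120 from rfl] at hA
    have hle := Subgroup.card_subgroup_dvd_card π.range
    have hc : Nat.card (alternatingGroup (Fin 5)) = 60 := by omega
    rw [hc] at hle
    obtain ⟨m, hm⟩ := d
    have : m = 1 ∨ m = 2 := by
      rw [hm] at hle
      have := Nat.le_of_dvd (by norm_num) hle
      have hm0 : 0 < m := Nat.pos_of_ne_zero fun h => by rw [h, mul_zero] at hle; simp at hle
      omega
    rcases this with rfl | rfl
    · exfalso
      have hi : π.range.index = 2 := by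
        have := Subgroup.card_mul_index π.range
        rw [hm, hc] at this
        omega
      have hn := Subgroup.normal_of_index_eq_two hi
      rcases hn.eq_bot_or_eq_top with h | h
      · rw [h, Subgroup.card_bot] at hm; omega
      · rw [h, Subgroup.card_top, hc] at hm; omega
    · exact Subgroup.eq_top_of_card_eq _ (by rw [hm, hc])
  obtain ⟨f, hf, hR, hf0⟩ := cover_pres (a := 3) (b := 5)
  obtain ⟨g, hg⟩ := hπ g5
  obtain ⟨k, hk⟩ := hπ k5
  set z : Cover 3 5 := cx ^ 3
  let t : Cover 3 5 := g * (cx * cy) * g⁻¹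
  let c : Cover 3 5 := k * cx * k⁻¹
  have hπt : π t = t5 := by
    simp only [t, map_mul, map_inv, hg, hx, hy]
    exact f4
  have hπc : π c = c5 := by
    simp only [c, map_mul, map_inv, hk, hx]
    exact f5
  have ht2 : t * t = z := by
    show g * (cx * cy) * g⁻¹ * (g * (cx * cy) * g⁻¹) = z
    rw [show g * (cx * cy) * g⁻¹ * (g * (cx * cy) * g⁻¹) = g * (cx * cy) ^ 2 * g⁻¹ by
      rw [pow_two]; group, ← cover_relations.1, (cover_central g).eq, mul_inv_cancel_right]
  have hc3 : c ^ 3 = z := by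
    show (k * cx * k⁻¹) ^ 3 = z
    rw [conj_pow, (cover_central k).eq, mul_inv_cancel_right]
  have hker := cover_ker bound_five π hπ (by rw [hx]; exact f1)
  refine ⟨Cover 3 5, inferInstance, π, f, {(t, true, false), (c, false, false)}, hπ, hf, hR,
    by rw [hf0, hx], by rw [hf0]; exact cover_normal_top (by decide), Finset.card_le_two,
    ⟨fun d hd => ?_, fun {Q} _ φ P hrel h b e hm => ?_⟩⟩
  · simp only [Finset.mem_insert, Finset.mem_singleton] at hd
    rcases hd with rfl | rfl
    · unfold Moves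
      rw [hπt]
      exact ⟨rfl, rfl⟩
    · unfold Moves
      rw [hπc]
      exact ⟨rfl, rfl⟩
  · have tg : φ t * P false * (φ t)⁻¹ = P true := hrel (t, true, false) (by simp)
    have cg : φ c * P false * (φ c)⁻¹ = P false := hrel (c, false, false) (by simp)
    have zg : φ z * P false * (φ z)⁻¹ = P false := by
      have h2 : ∀ j : ℕ, φ (c ^ j) * P false * (φ (c ^ j))⁻¹ = P false := by
        intro j
        induction j with
        | zero => simp
        | succ j ih =>
          rw [pow_succ, show φ (c ^ j * c) * P false * (φ (c ^ j * c))⁻¹ =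
            φ (c ^ j) * (φ c * P false * (φ c)⁻¹) * (φ (c ^ j))⁻¹ by rw [map_mul]; group, cg, ih]
      rw [← hc3]
      exact h2 3
    have tf : φ t * P true * (φ t)⁻¹ = P false := by
      rw [← tg, show φ t * (φ t * P false * (φ t)⁻¹) * (φ t)⁻¹ = φ (t * t) * P false * (φ (t * t))⁻¹ by
        rw [map_mul φ t t]; simp only [mul_inv_rev, mul_assoc], ht2, zg]
    have ht : Acts φ P t true := swap_of_rel tg tf
    have hzf : Acts φ P z false := by
      have := ht.mul ht
      rwa [ht2, Bool.xor_self] at this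
    have hsplit : ∀ h : Cover 3 5, π h = 1 → Acts φ P h false := fun h hh => by
      obtain ⟨j, rfl⟩ := hker h hh
      exact hzf.zpow_fix j
    have cf : φ c * P true * (φ c)⁻¹ = P true := by
      -- `t⁻¹ c t = c⁻¹ z^j`
      have hd := hsplit (t⁻¹ * c * t * c) (by
        rw [map_mul, map_mul, map_mul, map_inv, hπt, hπc]; exact f6) false
      rw [Bool.xor_self, show φ (t⁻¹ * c * t * c) * P false * (φ (t⁻¹ * c * t * c))⁻¹ =
        (φ t)⁻¹ * (φ c * (φ t * (φ c * P false * (φ c)⁻¹) * (φ t)⁻¹) * (φ c)⁻¹) * φ t by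
          simp only [map_mul, map_inv]; group, cg, tg] at hd
      calc φ c * P true * (φ c)⁻¹
          = φ t * ((φ t)⁻¹ * (φ c * P true * (φ c)⁻¹) * φ t) * (φ t)⁻¹ := by group
        _ = P true := by rw [hd, tg]
    have hc : Acts φ P c false := fun e => by
      cases e
      · exact cg
      · exact cf
    have hpre : ∀ (h u : Cover 3 5) (b : Bool), π u = π h → Acts φ P u b → Acts φ P h b := by
      intro h u b he hu
      have := hu.mul (hsplit (u⁻¹ * h) (by rw [map_mul, map_inv, he, inv_mul_cancel]))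
      rwa [mul_inv_cancel_left, Bool.xor_false] at this
    obtain ⟨m0, m1⟩ := hm
    cases b
    · rcases stab_five.1 _ m0 m1 with h1 | h1 | h1
      · exact hpre h 1 false (by rw [h1, map_one]) acts_one e
      · exact hpre h c false (by rw [h1, hπc]) hc e
      · exact hpre h (c ^ 2) false (by rw [h1, map_pow, hπc]) (hc.pow_fix 2) e
    · rcases stab_five.2 _ m0 m1 with h1 | h1 | h1
      · exact hpre h t true (by rw [h1, hπt]) ht e
      · exact hpre h (t * c) true (by rw [h1, map_mul, hπt, hπc]) (by simpa using ht.mul hc) e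
      · exact hpre h (t * c ^ 2) true (by rw [h1, map_mul, map_pow, hπt, hπc])
          (by simpa using ht.mul (hc.pow_fix 2)) e

end Cfsg.Agent.SLShort
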