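import Cfsg.Agent.SLShort.Combine
import Cfsg.Agent.SLShort.SmallCases
import Cfsg.Agent.SLShort.LargeCase
import Cfsg.Agent.ShortPres.Shift.Seven

/-!
# Short presentations of `SL(n, F)` and `PSL(n, F)` for all `n ≥ 4`
-/

set_option autoImplicit false

namespace Cfsg.Agent.SLShort

open Matrix Equiv Equiv.Perm Cfsg.Agent.AltMult
open scoped MatrixGroups

universe u

variable (F : Type u) [Field F] [Fintype F]

theorem sl4_pres : Pres (SpecialLinearGroup (Fin 4) F) 6 21 := by
  classical
  obtain ⟨H, _, π, f, D, hπ, hf, ⟨R, hR, hk⟩, hh, hnc, hD, hs⟩ := data_four.{u}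
  refine (glue_pres (F := F) π (le_refl 4) hπ f hf R hR hk (FreeGroup.of 0) hh hnc D hs
    {false, true} ⟨by simp, Or.inl (by simp)⟩).mono ?_
  have : ({false, true} : Finset Bool).card = 2 := rfl
  omega

theorem sl5_pres : Pres (SpecialLinearGroup (Fin 5) F) 6 21 := by
  classical
  obtain ⟨H, _, π, f, D, hπ, hf, ⟨R, hR, hk⟩, hh, hnc, hD, hs⟩ := data_five.{u}
  refine (glue_pres (F := F) π (Nat.le_succ 4) hπ f hf R hR hk (FreeGroup.of 0) hh hnc D hs
    {false, true} ⟨by simp, Or.inl (by simp)⟩).mono ?_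
  have : ({false, true} : Finset Bool).card = 2 := rfl
  omega

theorem sl_large_pres (n : ℕ) (hn : 4 ≤ n) (h6 : 6 ≤ n) :
    Pres (SpecialLinearGroup (Fin n) F) 7 25 := by
  classical
  have h01 : z hn 0 ≠ z hn 1 := (z_injective hn).ne (by decide)
  have h02 : z hn 0 ≠ z hn 2 := (z_injective hn).ne (by decide)
  have h12 : z hn 1 ≠ z hn 2 := (z_injective hn).ne (by decide)
  obtain ⟨f, hf, ⟨R, hR, hk⟩, hz⟩ :=
    ShortPres.Shift.seven_alt_cycle n (by omega) (z hn 0) (z hn 1) (z hn 2) h01 h02 h12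
  obtain ⟨D, hD, hs⟩ := data_large.{u} hn (by omega)
  have hnc : Subgroup.normalClosure ({f (FreeGroup.of 2)} : Set (alternatingGroup (Fin n))) = ⊤ := by
    have hsimple : IsSimpleGroup (alternatingGroup (Fin n)) :=
      alternatingGroup.isSimpleGroup (by simp; omega)
    rcases Subgroup.Normal.eq_bot_or_eq_top
      (Subgroup.normalClosure_normal (s := ({f (FreeGroup.of 2)} : Set (alternatingGroup (Fin n))))) with h | h
    · exfalso
      have h1 : f (FreeGroup.of 2) = 1 := Subgroup.mem_bot.mp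
        (h ▸ Subgroup.subset_normalClosure (Set.mem_singleton _))
      have h2 := congrArg (fun g : alternatingGroup (Fin n) => g.1 (z hn 0)) h1
      simp only [hz, OneMemClass.coe_one, Perm.one_apply] at h2
      exact h01 ((cyc_apply_left h01 h12).symm.trans h2).symm
    · exact h
  refine (glue_pres_elim (F := F) (MonoidHom.id _) hn Function.surjective_id f hf R hR hk 2
    (Subtype.ext hz) hnc D hs {false} ⟨by simp, Or.inr h6⟩).mono ?_
  have : ({false} : Finset Bool).card = 1 := rfl
  omega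

theorem sl_pres (n : ℕ) (hn : 4 ≤ n) : Pres (SpecialLinearGroup (Fin n) F) 7 25 := by
  rcases lt_trichotomy n 5 with h | h | h
  · obtain rfl : n = 4 := by omega
    exact (sl4_pres F).pad.mono (by omega)
  · subst h
    exact (sl5_pres F).pad.mono (by omega)
  · exact sl_large_pres F n hn h

theorem psl_pres' (n : ℕ) (hn : 4 ≤ n) : Pres (ProjectiveSpecialLinearGroup (Fin n) F) 7 26 :=
  psl_pres (by omega) (sl_pres F n hn)

end Cfsg.Agent.SLShort
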