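import Cfsg.Agent.ShortPres.Basic

/-!
# Presentations on a given number of generators
-/

set_option autoImplicit false

namespace Cfsg.Agent.SLShort

universe u v

/-- A presentation on `k` generators with at most `r` relations. -/
def Pres (T : Type u) [Group T] (k r : ℕ) : Prop :=
  ∃ f : FreeGroup (Fin k) →* T, Function.Surjective f ∧
    ∃ R : Finset (FreeGroup (Fin k)), R.card ≤ r ∧ f.ker = Subgroup.normalClosure (R : Set _)

variable {T : Type u} [Group T]

theorem Pres.mono {k r r' : ℕ} (h : Pres T k r) (hr : r ≤ r') : Pres T k r' := by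
  obtain ⟨f, hf, R, hR, hker⟩ := h
  exact ⟨f, hf, R, hR.trans hr, hker⟩

theorem pres_of_presented {k r : ℕ} (rels : Finset (FreeGroup (Fin k))) (hr : rels.card ≤ r)
    (h : Nonempty (PresentedGroup (↑rels : Set (FreeGroup (Fin k))) ≃* T)) : Pres T k r := by
  obtain ⟨e⟩ := h
  refine ⟨e.toMonoidHom.comp (PresentedGroup.mk _),
    e.surjective.comp (PresentedGroup.mk_surjective _), rels, hr, ?_⟩
  ext x
  simp only [MonoidHom.mem_ker, MonoidHom.coe_comp, MulEquiv.coe_toMonoidHom, Function.comp_apply,
    EmbeddingLike.map_eq_one_iff]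
  exact PresentedGroup.mk_eq_one_iff

theorem Pres.presented {k r : ℕ} (h : Pres T k r) :
    ∃ rels : Finset (FreeGroup (Fin k)), rels.card ≤ r ∧
      Nonempty (PresentedGroup (↑rels : Set (FreeGroup (Fin k))) ≃* T) := by
  obtain ⟨f, hf, R, hR, hker⟩ := h
  exact ⟨R, hR, ⟨(QuotientGroup.quotientMulEquivOfEq hker.symm).trans
    (QuotientGroup.quotientKerEquivOfSurjective f hf)⟩⟩

/-- Kernels of composites. -/
theorem ker_comp {G : Type*} [Group G] {M : Type*} [Group M] (f : G →* M)
    (hf : Function.Surjective f) (Φ : M →* T) {A B : Set G}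
    (hA : f.ker = Subgroup.normalClosure A) (hB : Φ.ker = Subgroup.normalClosure (f '' B)) :
    (Φ.comp f).ker = Subgroup.normalClosure (A ∪ B) := by
  refine le_antisymm (fun x hx => ?_) (Subgroup.normalClosure_le_normal ?_)
  · have hx' : f x ∈ Φ.ker := hx
    rw [hB, ← Subgroup.map_normalClosure B f hf] at hx'
    obtain ⟨y, hy, e⟩ := hx'
    have hk : x * y⁻¹ ∈ Subgroup.normalClosure A := by
      rw [← hA, MonoidHom.mem_ker, map_mul, map_inv, e, mul_inv_cancel]
    have := (Subgroup.normalClosure (A ∪ B)).mul_mem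
      (Subgroup.normalClosure_mono Set.subset_union_left hk)
      (Subgroup.normalClosure_mono Set.subset_union_right hy)
    simpa using this
  · rintro x (hx | hx) <;> show Φ (f x) = 1
    · rw [show f x = 1 from (hA ▸ Subgroup.subset_normalClosure hx : x ∈ f.ker), map_one]
    · exact (hB ▸ Subgroup.subset_normalClosure ⟨x, hx, rfl⟩ : f x ∈ Φ.ker)

/-- Adding a relation through a surjection. -/
theorem Pres.quotient {T' : Type v} [Group T'] {k r : ℕ} (h : Pres T k r) (Φ : T →* T')
    (hΦ : Function.Surjective Φ) (z : T) (hz : Φ.ker = Subgroup.normalClosure {z}) :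
    Pres T' k (r + 1) := by
  classical
  obtain ⟨f, hf, R, hR, hker⟩ := h
  obtain ⟨y, rfl⟩ := hf z
  refine ⟨Φ.comp f, hΦ.comp hf, R ∪ {y},
    (Finset.card_union_le _ _).trans (Nat.add_le_add hR (le_of_eq (Finset.card_singleton _))), ?_⟩
  rw [Finset.coe_union, Finset.coe_singleton]
  exact ker_comp f hf Φ hker (by rw [hz, Set.image_singleton])

/-- One more generator and one more relation. -/
theorem Pres.pad {k r : ℕ} (h : Pres T k r) : Pres T (k + 1) (r + 1) := by
  classical
  obtain ⟨f, hf, R, hR, hker⟩ := h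
  let i : FreeGroup (Fin k) →* FreeGroup (Fin (k + 1)) := FreeGroup.map Fin.castSucc
  let d : FreeGroup (Fin (k + 1)) →* FreeGroup (Fin k) :=
    FreeGroup.lift (Fin.snoc (α := fun _ => FreeGroup (Fin k)) FreeGroup.of 1)
  have hdi : ∀ x, d (i x) = x := fun x => by
    refine DFunLike.congr_fun (f := d.comp i) (g := MonoidHom.id _) ?_ x
    apply FreeGroup.ext_hom; intro j; simp [d, i]
  have hd : Function.Surjective d := fun x => ⟨i x, hdi x⟩
  refine ⟨f.comp d, hf.comp hd, {FreeGroup.of (Fin.last k)} ∪ R.image i,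
    (Finset.card_union_le _ _).trans ((Nat.add_le_add (le_of_eq (Finset.card_singleton _))
      (Finset.card_image_le.trans hR)).trans (by omega)), ?_⟩
  rw [Finset.coe_union, Finset.coe_singleton, Finset.coe_image]
  refine ker_comp d hd f ?_ (by rw [hker, Set.image_image]; simp [hdi])
  refine Cfsg.Agent.ShortPres.ker_eq_normalClosure _ _ (fun x hx => ?_) fun x hx => ?_
  · rw [Set.mem_singleton_iff.mp hx]; simp [d]
  · set N := Subgroup.normalClosure ({FreeGroup.of (Fin.last k)} : Set (FreeGroup (Fin (k + 1))))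
    have e : (QuotientGroup.mk' N).comp (i.comp d) = QuotientGroup.mk' N := by
      apply FreeGroup.ext_hom
      intro j
      induction j using Fin.lastCases with
      | last =>
        simp only [MonoidHom.comp_apply, d, FreeGroup.lift_apply_of, Fin.snoc_last, map_one]
        exact ((QuotientGroup.eq_one_iff _).mpr (Subgroup.subset_normalClosure (s := {FreeGroup.of (Fin.last k)}) (Set.mem_singleton _))).symm
      | cast j => simp [d, i]
    have := DFunLike.congr_fun e x
    rw [MonoidHom.comp_apply, MonoidHom.comp_apply, hx, map_one, map_one] at this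
    exact (QuotientGroup.eq_one_iff x).mp this.symm

/-- A generator given by a relation is eliminated with that relation. -/
theorem pres_elim {k r : ℕ} (f : FreeGroup (Fin (k + 1)) →* T) (hf : Function.Surjective f)
    (R : Finset (FreeGroup (Fin (k + 1)))) (hR : R.card ≤ r)
    (hker : f.ker = Subgroup.normalClosure (R : Set _)) (j : Fin (k + 1)) (ω : FreeGroup (Fin k))
    (hj : FreeGroup.of j * (FreeGroup.map j.succAbove ω)⁻¹ ∈ R) : Pres T k (r - 1) := by
  classical
  let i : FreeGroup (Fin k) →* FreeGroup (Fin (k + 1)) := FreeGroup.map j.succAbove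
  let θ : FreeGroup (Fin (k + 1)) →* FreeGroup (Fin k) :=
    FreeGroup.lift (Fin.insertNth (α := fun _ => FreeGroup (Fin k)) j ω FreeGroup.of)
  have hθi : ∀ x, θ (i x) = x := fun x => by
    refine DFunLike.congr_fun (f := θ.comp i) (g := MonoidHom.id _) ?_ x
    apply FreeGroup.ext_hom; intro l; simp [θ, i]
  have hx0 : f (FreeGroup.of j) = f (i ω) := by
    have : FreeGroup.of j * (i ω)⁻¹ ∈ f.ker := hker ▸ Subgroup.subset_normalClosure hj
    rwa [MonoidHom.mem_ker, map_mul, map_inv, mul_inv_eq_one] at this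
  have hfθ : ∀ x, f (i (θ x)) = f x := fun x => by
    refine DFunLike.congr_fun (f := (f.comp i).comp θ) (g := f) ?_ x
    apply FreeGroup.ext_hom
    intro l
    simp only [MonoidHom.comp_apply, θ, FreeGroup.lift_apply_of]
    induction l using j.succAboveCases with
    | x => rw [Fin.insertNth_apply_same]; exact hx0.symm
    | p l => rw [Fin.insertNth_apply_succAbove]; simp [i]
  refine ⟨f.comp i, fun t => ?_, (R.image θ).erase 1, ?_, ?_⟩
  · obtain ⟨x, rfl⟩ := hf t
    exact ⟨θ x, hfθ x⟩
  · have h1 : (1 : FreeGroup (Fin k)) ∈ R.image θ := by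
      refine Finset.mem_image.mpr ⟨_, hj, ?_⟩
      rw [map_mul, map_inv, hθi]
      simp [θ]
    rw [Finset.card_erase_of_mem h1]
    have := (Finset.card_image_le (s := R) (f := θ)).trans hR
    omega
  · refine Cfsg.Agent.ShortPres.ker_eq_normalClosure _ _ (fun x hx => ?_) fun x hx => ?_
    · obtain ⟨-, hx⟩ := Finset.mem_erase.mp (Finset.mem_coe.mp hx)
      obtain ⟨c, hc, rfl⟩ := Finset.mem_image.mp hx
      show f (i (θ c)) = 1
      rw [hfθ, ← MonoidHom.mem_ker, hker]
      exact Subgroup.subset_normalClosure hc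
    · set N := Subgroup.normalClosure (↑((R.image θ).erase 1) : Set (FreeGroup (Fin k)))
      have hle : f.ker ≤ N.comap θ := by
        rw [hker]
        refine Subgroup.normalClosure_le_normal fun c hc => ?_
        show θ c ∈ N
        by_cases h1 : θ c = 1
        · rw [h1]; exact one_mem _
        · exact Subgroup.subset_normalClosure
            (Finset.mem_coe.mpr (Finset.mem_erase.mpr ⟨h1, Finset.mem_image_of_mem _ hc⟩))
      have := hle (show i x ∈ f.ker from hx)
      rwa [Subgroup.mem_comap, hθi] at this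

/-- A free product of presented groups, with further relations. -/
theorem ker_coprod_free {G : Type*} [Group G] {M : Type*} [Group M] {k l : ℕ}
    (f : FreeGroup (Fin k) →* G) (hf : Function.Surjective f) (A : Set (FreeGroup (Fin k)))
    (hA : f.ker = Subgroup.normalClosure A) (g : FreeGroup (Fin l) →* M)
    (hg : Function.Surjective g) (B : Set (FreeGroup (Fin l)))
    (hB : g.ker = Subgroup.normalClosure B) :
    ∃ Fc : FreeGroup (Fin (k + l)) →* Monoid.Coprod G M, Function.Surjective Fc ∧
      Fc.ker = Subgroup.normalClosure (FreeGroup.map (Fin.castAdd l) '' A ∪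
        FreeGroup.map (Fin.natAdd k) '' B) ∧
      (∀ x, Fc (FreeGroup.map (Fin.castAdd l) x) = Monoid.Coprod.inl (f x)) ∧
      ∀ x, Fc (FreeGroup.map (Fin.natAdd k) x) = Monoid.Coprod.inr (g x) := by
  classical
  let i1 : FreeGroup (Fin k) →* FreeGroup (Fin (k + l)) := FreeGroup.map (Fin.castAdd l)
  let i2 : FreeGroup (Fin l) →* FreeGroup (Fin (k + l)) := FreeGroup.map (Fin.natAdd k)
  let F : FreeGroup (Fin (k + l)) →* Monoid.Coprod G M :=
    FreeGroup.lift (Fin.addCases (fun i => Monoid.Coprod.inl (f (FreeGroup.of i)))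
      (fun i => Monoid.Coprod.inr (g (FreeGroup.of i))))
  have h1 : F.comp i1 = Monoid.Coprod.inl.comp f := by
    apply FreeGroup.ext_hom; intro i; simp [F, i1]
  have h2 : F.comp i2 = Monoid.Coprod.inr.comp g := by
    apply FreeGroup.ext_hom; intro i; simp [F, i2]
  have e1 : ∀ x, F (i1 x) = Monoid.Coprod.inl (f x) := fun x => DFunLike.congr_fun h1 x
  have e2 : ∀ x, F (i2 x) = Monoid.Coprod.inr (g x) := fun x => DFunLike.congr_fun h2 x
  refine ⟨F, fun x => ?_, ?_, e1, e2⟩
  · induction x using Monoid.Coprod.induction_on with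
    | inl a => obtain ⟨z, rfl⟩ := hf a; exact ⟨i1 z, e1 z⟩
    | inr b => obtain ⟨z, rfl⟩ := hg b; exact ⟨i2 z, e2 z⟩
    | mul a b ha hb =>
      obtain ⟨za, rfl⟩ := ha
      obtain ⟨zb, rfl⟩ := hb
      exact ⟨za * zb, map_mul _ _ _⟩
  · refine Cfsg.Agent.ShortPres.ker_eq_normalClosure _ _ (fun x hx => ?_) fun x hx => ?_
    · rcases hx with ⟨c, hc, rfl⟩ | ⟨c, hc, rfl⟩
      · rw [e1, show f c = 1 from (hA ▸ Subgroup.subset_normalClosure hc : c ∈ f.ker), map_one]
      · rw [e2, show g c = 1 from (hB ▸ Subgroup.subset_normalClosure hc : c ∈ g.ker), map_one]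
    · set N := Subgroup.normalClosure (i1 '' A ∪ i2 '' B)
      have hk1 : f.ker ≤ ((QuotientGroup.mk' N).comp i1).ker := by
        rw [hA]
        exact Subgroup.normalClosure_le_normal fun c hc => (QuotientGroup.eq_one_iff _).mpr
          (Subgroup.subset_normalClosure (Or.inl ⟨c, hc, rfl⟩))
      have hk2 : g.ker ≤ ((QuotientGroup.mk' N).comp i2).ker := by
        rw [hB]
        exact Subgroup.normalClosure_le_normal fun c hc => (QuotientGroup.eq_one_iff _).mpr
          (Subgroup.subset_normalClosure (Or.inr ⟨c, hc, rfl⟩))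
      let ψ1 := f.liftOfSurjective hf ⟨_, hk1⟩
      let ψ2 := g.liftOfSurjective hg ⟨_, hk2⟩
      have hψ : (Monoid.Coprod.lift ψ1 ψ2).comp F = QuotientGroup.mk' N := by
        apply FreeGroup.ext_hom
        intro i
        refine Fin.addCases (fun i => ?_) (fun i => ?_) i
        · simp only [MonoidHom.comp_apply, F, FreeGroup.lift_apply_of, Fin.addCases_left,
            Monoid.Coprod.lift_apply_inl, ψ1, MonoidHom.liftOfRightInverse_comp_apply]
          simp [i1]
        · simp only [MonoidHom.comp_apply, F, FreeGroup.lift_apply_of, Fin.addCases_right,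
            Monoid.Coprod.lift_apply_inr, ψ2, MonoidHom.liftOfRightInverse_comp_apply]
          simp [i2]
      have := DFunLike.congr_fun hψ x
      rw [MonoidHom.comp_apply, hx, map_one] at this
      exact (QuotientGroup.eq_one_iff x).mp this.symm

end Cfsg.Agent.SLShort
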