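import Cfsg.Agent.SLShort.Glue

/-!
# Presentations from the gluing
-/

set_option autoImplicit false

namespace Cfsg.Agent.SLShort

open Matrix Equiv.Perm Cfsg.Agent.AltMult
open scoped MatrixGroups

universe u

variable {n : ℕ} {H : Type} [Group H] (π : H →* alternatingGroup (Fin n)) {F : Type u} [Field F]
  [Fintype F]

theorem exists_glued_pres (hn : 4 ≤ n) (hπ : Function.Surjective π) {k r : ℕ}
    (f1 : FreeGroup (Fin k) →* H) (hf1 : Function.Surjective f1) (R1 : Finset (FreeGroup (Fin k)))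
    (hR1 : R1.card ≤ r) (hk1 : f1.ker = Subgroup.normalClosure (R1 : Set _)) (h : FreeGroup (Fin k))
    (hh : π (f1 h) = cycA (z hn 0) (z hn 1) (z hn 2) ((z_injective hn).ne (by decide))
      ((z_injective hn).ne (by decide)))
    (hnc : Subgroup.normalClosure ({f1 h} : Set H) = ⊤)
    (D : Finset (H × Bool × Bool)) (hD : StabData.{u} π hn D) (Dsd : Finset Bool)
    (hsd : false ∈ Dsd ∧ (true ∈ Dsd ∨ 6 ≤ n)) :
    ∃ f : FreeGroup (Fin (k + 4)) →* SpecialLinearGroup (Fin n) F, Function.Surjective f ∧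
      ∃ (R : Finset (FreeGroup (Fin (k + 4)))) (w : FreeGroup (Fin 4)),
        R.card ≤ r + 14 + (D.card + Dsd.card + 1) ∧
        f.ker = Subgroup.normalClosure (R : Set _) ∧
        FreeGroup.map (Fin.castAdd 4) h * (FreeGroup.map (Fin.natAdd k) w)⁻¹ ∈ R := by
  classical
  obtain ⟨Φ, hΦ, w, S, hS, hker⟩ := sl_glue (F := F) π hn hπ (f1 h) hh hnc D hD Dsd hsd
  obtain ⟨rels, hr2, he⟩ := Cfsg.Agent.SL3Pres.exists_presentation (F := F)
  obtain ⟨f2, hf2, R2, hR2, hk2⟩ := pres_of_presented rels hr2 he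
  obtain ⟨Fc, hFc, hkc, e1, e2⟩ := ker_coprod_free f1 hf1 _ hk1 f2 hf2 _ hk2
  obtain ⟨w', rfl⟩ := hf2 w
  let x0 := FreeGroup.map (Fin.castAdd 4) h * (FreeGroup.map (Fin.natAdd k) w')⁻¹
  have hx0 : Fc x0 = Monoid.Coprod.inl (f1 h) * (Monoid.Coprod.inr (f2 w'))⁻¹ := by
    simp only [x0, map_mul, map_inv, e1, e2]
  refine ⟨Φ.comp Fc, hΦ.comp hFc, (R1.image (FreeGroup.map (Fin.castAdd 4)) ∪
    R2.image (FreeGroup.map (Fin.natAdd k))) ∪ insert x0 (S.image (Function.surjInv hFc)), w',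
    ?_, ?_, Finset.mem_union_right _ (Finset.mem_insert_self _ _)⟩
  · exact (Finset.card_union_le _ _).trans (Nat.add_le_add
      ((Finset.card_union_le _ _).trans (Nat.add_le_add (Finset.card_image_le.trans hR1)
        (Finset.card_image_le.trans hR2)))
      ((Finset.card_insert_le _ _).trans (Nat.add_le_add_right (Finset.card_image_le.trans hS) 1)))
  · rw [Finset.coe_union]
    refine ker_comp Fc hFc Φ ?_ ?_
    · rw [hkc, Finset.coe_union, Finset.coe_image, Finset.coe_image]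
    · rw [hker, Finset.coe_insert, Set.image_insert_eq, hx0, Finset.coe_image, Set.image_image]
      simp only [Function.surjInv_eq hFc, Set.image_id']

theorem glue_pres (hn : 4 ≤ n) (hπ : Function.Surjective π) {k r : ℕ}
    (f1 : FreeGroup (Fin k) →* H) (hf1 : Function.Surjective f1) (R1 : Finset (FreeGroup (Fin k)))
    (hR1 : R1.card ≤ r) (hk1 : f1.ker = Subgroup.normalClosure (R1 : Set _)) (h : FreeGroup (Fin k))
    (hh : π (f1 h) = cycA (z hn 0) (z hn 1) (z hn 2) ((z_injective hn).ne (by decide))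
      ((z_injective hn).ne (by decide)))
    (hnc : Subgroup.normalClosure ({f1 h} : Set H) = ⊤)
    (D : Finset (H × Bool × Bool)) (hD : StabData.{u} π hn D) (Dsd : Finset Bool)
    (hsd : false ∈ Dsd ∧ (true ∈ Dsd ∨ 6 ≤ n)) :
    Pres (SpecialLinearGroup (Fin n) F) (k + 4) (r + 14 + (D.card + Dsd.card + 1)) := by
  obtain ⟨f, hf, R, -, hR, hker, -⟩ :=
    exists_glued_pres (F := F) π hn hπ f1 hf1 R1 hR1 hk1 h hh hnc D hD Dsd hsd
  exact ⟨f, hf, R, hR, hker⟩

theorem glue_pres_elim (hn : 4 ≤ n) (hπ : Function.Surjective π) {r : ℕ}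
    (f1 : FreeGroup (Fin 4) →* H) (hf1 : Function.Surjective f1) (R1 : Finset (FreeGroup (Fin 4)))
    (hR1 : R1.card ≤ r) (hk1 : f1.ker = Subgroup.normalClosure (R1 : Set _)) (i : Fin 4)
    (hh : π (f1 (FreeGroup.of i)) = cycA (z hn 0) (z hn 1) (z hn 2) ((z_injective hn).ne (by decide))
      ((z_injective hn).ne (by decide)))
    (hnc : Subgroup.normalClosure ({f1 (FreeGroup.of i)} : Set H) = ⊤)
    (D : Finset (H × Bool × Bool)) (hD : StabData.{u} π hn D) (Dsd : Finset Bool)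
    (hsd : false ∈ Dsd ∧ (true ∈ Dsd ∨ 6 ≤ n)) :
    Pres (SpecialLinearGroup (Fin n) F) 7 (r + 14 + (D.card + Dsd.card)) := by
  obtain ⟨f, hf, R, w, hR, hker, hx⟩ :=
    exists_glued_pres (F := F) π hn hπ f1 hf1 R1 hR1 hk1 _ hh hnc D hD Dsd hsd
  let j : Fin 8 := Fin.castAdd 4 i
  have hτ : ∀ l : Fin 4, ∃ y : Fin 7, j.succAbove y = Fin.natAdd 4 l := fun l =>
    Fin.exists_succAbove_eq (Fin.ne_of_val_ne (by simp [j]; omega))
  choose τ hτ using hτ
  refine (pres_elim f hf R hR hker j (FreeGroup.map τ w) ?_).mono (by omega)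
  have e : FreeGroup.map j.succAbove (FreeGroup.map τ w) = FreeGroup.map (Fin.natAdd 4) w := by
    rw [FreeGroup.map.comp]
    exact congrArg (fun g => FreeGroup.map g w) (funext hτ)
  rw [e]
  simpa [j] using hx

/-- The central quotient. -/
theorem psl_pres {k r : ℕ} (hn : 1 ≤ n) (h : Pres (SpecialLinearGroup (Fin n) F) k r) :
    Pres (ProjectiveSpecialLinearGroup (Fin n) F) k (r + 1) := by
  classical
  have : Nonempty (Fin n) := ⟨⟨0, hn⟩⟩
  have hcyc : IsCyclic (Subgroup.center (SpecialLinearGroup (Fin n) F)) :=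
    (SpecialLinearGroup.center_equiv_rootsOfUnity' (Classical.arbitrary (Fin n))).isCyclic.mpr
      inferInstance
  obtain ⟨c, hc⟩ := hcyc.exists_generator
  refine h.quotient (QuotientGroup.mk' _) (QuotientGroup.mk'_surjective _) (c : SpecialLinearGroup (Fin n) F) ?_
  rw [QuotientGroup.ker_mk']
  refine le_antisymm (fun x hx => ?_) (Subgroup.normalClosure_le_normal (by simp))
  obtain ⟨j, hj⟩ := hc ⟨x, hx⟩
  rw [show x = (c : SpecialLinearGroup (Fin n) F) ^ j from (congrArg Subtype.val hj).symm]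
  exact zpow_mem (Subgroup.subset_normalClosure (by simp)) j

end Cfsg.Agent.SLShort
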