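import Cfsg.Agent.SLShort.Glue
import Cfsg.Agent.ShortPres.Shift.Seven

/-!
# Actions of stabilisers and two-generator covers of `Alt(4)`, `Alt(5)`
-/

set_option autoImplicit false

namespace Cfsg.Agent.SLShort

open Equiv Equiv.Perm Cfsg.Agent.AltMult

universe u

variable {H : Type} [Group H] {Q : Type u} [Group Q] (φ : H →* Q) (P : Bool → Q)

/-- `h` permutes the two elements as `b` says. -/
def Acts (h : H) (b : Bool) : Prop := ∀ c, φ h * P c * (φ h)⁻¹ = P (xor b c)

variable {φ P}

theorem acts_one : Acts φ P (1 : H) false := fun c => by simp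

theorem Acts.mul {h h' : H} {b b' : Bool} (ha : Acts φ P h b) (hb : Acts φ P h' b') :
    Acts φ P (h * h') (xor b b') := fun c => by
  rw [show φ (h * h') * P c * (φ (h * h'))⁻¹ = φ h * (φ h' * P c * (φ h')⁻¹) * (φ h)⁻¹ by
    rw [map_mul]; group, hb c, ha, Bool.xor_assoc]

theorem Acts.inv {h : H} {b : Bool} (ha : Acts φ P h b) : Acts φ P h⁻¹ b := fun c => by
  have h1 := ha (xor b c)
  rw [← Bool.xor_assoc, Bool.xor_self, Bool.false_xor] at h1
  rw [← h1, map_inv]
  group

theorem Acts.pow_fix {h : H} (ha : Acts φ P h false) : ∀ j : ℕ, Acts φ P (h ^ j) false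
  | 0 => by simpa using acts_one
  | j + 1 => by rw [pow_succ]; simpa using (Acts.pow_fix ha j).mul ha

theorem Acts.zpow_fix {h : H} (ha : Acts φ P h false) : ∀ j : ℤ, Acts φ P (h ^ j) false
  | .ofNat j => by simpa using ha.pow_fix j
  | .negSucc j => by simpa using (ha.pow_fix (j + 1)).inv

theorem swap_of_rel {t : H} (h1 : φ t * P false * (φ t)⁻¹ = P true)
    (h2 : φ t * P true * (φ t)⁻¹ = P false) : Acts φ P t true := fun c => by
  cases c
  · exact h1
  · exact h2

/-- The relators `x^a = (xy)² = y^b`. -/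
def coverRels (a b : ℕ) : Finset (FreeGroup (Fin 2)) :=
  {FreeGroup.of 0 ^ a * ((FreeGroup.of 0 * FreeGroup.of 1) ^ 2)⁻¹,
    FreeGroup.of 1 ^ b * ((FreeGroup.of 0 * FreeGroup.of 1) ^ 2)⁻¹}

/-- The cover. -/
abbrev Cover (a b : ℕ) : Type := PresentedGroup (↑(coverRels a b) : Set (FreeGroup (Fin 2)))

variable {a b : ℕ}

/-- The first generator. -/
def cx : Cover a b := PresentedGroup.of 0

/-- The second generator. -/
def cy : Cover a b := PresentedGroup.of 1

theorem cover_relations : (cx : Cover a b) ^ a = (cx * cy) ^ 2 ∧ (cy : Cover a b) ^ b = (cx * cy) ^ 2 := by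
  constructor
  · have := PresentedGroup.one_of_mem (rels := (↑(coverRels a b) : Set (FreeGroup (Fin 2))))
      (Finset.mem_coe.mpr (Finset.mem_insert_self _ _))
    rwa [map_mul, map_inv, map_pow, map_pow, map_mul, mul_inv_eq_one] at this
  · have := PresentedGroup.one_of_mem (rels := (↑(coverRels a b) : Set (FreeGroup (Fin 2))))
      (Finset.mem_coe.mpr (Finset.mem_insert_of_mem (Finset.mem_singleton_self _)))
    rwa [map_mul, map_inv, map_pow, map_pow, map_mul, mul_inv_eq_one] at this

theorem cover_top : Subgroup.closure ({cx, cy} : Set (Cover a b)) = ⊤ := by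
  rw [eq_top_iff, ← PresentedGroup.closure_range_of, Subgroup.closure_le]
  rintro _ ⟨i, rfl⟩
  refine Subgroup.subset_closure ?_
  fin_cases i <;> simp [cx, cy]

theorem cover_central (g : Cover a b) : Commute g ((cx : Cover a b) ^ a) := by
  have h : Subgroup.closure ({cx, cy} : Set (Cover a b)) ≤
      Subgroup.centralizer ({(cx : Cover a b) ^ a} : Set (Cover a b)) := by
    rw [Subgroup.closure_le]
    intro t ht
    rw [SetLike.mem_coe, Subgroup.mem_centralizer_singleton_iff]
    rcases ht with rfl | rfl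
    · exact (Commute.self_pow cx a).eq
    · rw [cover_relations.1, ← cover_relations.2]
      exact (Commute.self_pow cy b).eq
  exact Subgroup.mem_centralizer_singleton_iff.mp (h (cover_top ▸ Subgroup.mem_top g))

theorem cover_normal_top (hb : Odd b) : Subgroup.normalClosure ({cx} : Set (Cover a b)) = ⊤ := by
  set N := Subgroup.normalClosure ({cx} : Set (Cover a b))
  let q := QuotientGroup.mk' N
  have hx : q cx = 1 := (QuotientGroup.eq_one_iff _).mpr
    (Subgroup.subset_normalClosure (Set.mem_singleton _))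
  have h2 : q cy ^ 2 = 1 := by
    have := congrArg q (cover_relations (a := a) (b := b)).1
    rw [map_pow, map_pow, map_mul, hx, one_pow, one_mul] at this
    exact this.symm
  have hb' : q cy ^ b = 1 := by
    rw [← map_pow, cover_relations.2, map_pow, map_mul, hx, one_mul, h2]
  have hy : q cy = 1 := by
    have := pow_gcd_eq_one.mpr ⟨h2, hb'⟩
    rwa [show Nat.gcd 2 b = 1 from (Nat.prime_two.coprime_iff_not_dvd).mpr
      (Nat.two_dvd_ne_zero.mpr (Nat.odd_iff.mp hb)), pow_one] at this
  rw [eq_top_iff, ← cover_top, Subgroup.closure_le]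
  rintro t (rfl | rfl)
  · exact Subgroup.subset_normalClosure (Set.mem_singleton _)
  · exact (QuotientGroup.eq_one_iff _).mp hy

/-- The homomorphism onto a group with two elements satisfying the relations. -/
theorem cover_hom {G : Type*} [Group G] (x y : G) (hx : x ^ a = 1) (hy : y ^ b = 1)
    (hxy : (x * y) ^ 2 = 1) : ∃ π : Cover a b →* G, π cx = x ∧ π cy = y := by
  refine ⟨PresentedGroup.toGroup (f := ![x, y]) ?_, ?_, ?_⟩
  · intro r hr
    simp only [coverRels, Finset.coe_insert, Finset.coe_singleton, Set.mem_insert_iff,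
      Set.mem_singleton_iff] at hr
    rcases hr with rfl | rfl <;> simp [hx, hy, hxy]
  · exact PresentedGroup.toGroup.of _
  · exact PresentedGroup.toGroup.of _

/-- The kernel is generated by the central element if the relations bound the order. -/
theorem cover_ker {G : Type} [Group G] [Finite G]
    (hbound : ∀ (K : Type) [Group K] (x y : K), x ^ a = 1 → y ^ b = 1 → (x * y) ^ 2 = 1 →
      Subgroup.closure ({x, y} : Set K) = ⊤ → Finite K ∧ Nat.card K ≤ Nat.card G)
    (π : Cover a b →* G) (hπ : Function.Surjective π) (hza : π cx ^ a = 1) (g : Cover a b)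
    (hg : π g = 1) : g ∈ Subgroup.zpowers ((cx : Cover a b) ^ a) := by
  set Z := Subgroup.zpowers ((cx : Cover a b) ^ a)
  have hZn : Z.Normal := ⟨fun z hz h => by
    obtain ⟨j, rfl⟩ := hz
    rw [((cover_central h).zpow_right j).eq, mul_inv_cancel_right]
    exact ⟨j, rfl⟩⟩
  let q : Cover a b →* Cover a b ⧸ Z := QuotientGroup.mk' Z
  have hz : q cx ^ a = 1 := by
    rw [← map_pow]
    exact (QuotientGroup.eq_one_iff _).mpr (Subgroup.mem_zpowers _)
  obtain ⟨hfin, hcard⟩ := hbound _ (q cx) (q cy) hz
    (by rw [← map_pow, cover_relations.2, ← cover_relations.1, map_pow, hz])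
    (by rw [← map_mul, ← map_pow, ← cover_relations.1, map_pow, hz])
    (by
      rw [show ({q cx, q cy} : Set _) = q '' {cx, cy} by simp [Set.image_pair],
        ← MonoidHom.map_closure, cover_top, ← MonoidHom.range_eq_map]
      exact MonoidHom.range_eq_top.mpr (QuotientGroup.mk'_surjective _))
  let ψ : Cover a b ⧸ Z →* G := QuotientGroup.lift Z π (by
    intro z hz
    obtain ⟨j, rfl⟩ := hz
    show π _ = 1
    simp only [map_zpow, map_pow, hza, one_zpow])
  have hψ : Function.Surjective ψ := fun t => by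
    obtain ⟨c, rfl⟩ := hπ t
    exact ⟨(c : Cover a b ⧸ Z), rfl⟩
  have hb' := Function.Surjective.bijective_of_nat_card_le hψ hcard
  exact (QuotientGroup.eq_one_iff g).mp (hb'.1 (show ψ g = ψ 1 by rw [map_one]; exact hg))

theorem cover_pres : ∃ f : FreeGroup (Fin 2) →* Cover a b, Function.Surjective f ∧
    (∃ R : Finset (FreeGroup (Fin 2)), R.card ≤ 2 ∧ f.ker = Subgroup.normalClosure (R : Set _)) ∧
    f (FreeGroup.of 0) = cx :=
  ⟨PresentedGroup.mk _, PresentedGroup.mk_surjective _,
    ⟨coverRels a b, Finset.card_le_two, by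
      ext x
      exact PresentedGroup.mk_eq_one_iff⟩, rfl⟩

end Cfsg.Agent.SLShort
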