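import Cfsg.Agent.ShortPres.SL2Gen
import Cfsg.Agent.Classical.TwoTrans

/-!
# `SL(2, F)` is generated by an element and its flip
-/

set_option autoImplicit false

namespace Cfsg.Agent.SLShort

open Matrix Cfsg.Agent.SL2Pres Cfsg.Agent.ShortPres Cfsg.Agent.RootSub.Dickson
open scoped MatrixGroups

universe u

variable {F : Type u} [Field F]

/-- Scaling the two root groups against each other. -/
def scaleHom (s : Fˣ) : SL(2, F) →* SL(2, F) where
  toFun M := ⟨!![M.1 0 0, M.1 0 1 * s; M.1 1 0 * ((s⁻¹ : Fˣ) : F), M.1 1 1], by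
    have h := M.2
    rw [det_fin_two] at h ⊢
    simp
    linear_combination h + (M.1 0 1 * M.1 1 0) * (mul_inv_cancel₀ s.ne_zero).symm⟩
  map_one' := Subtype.ext (by ext i j; fin_cases i <;> fin_cases j <;> simp)
  map_mul' M N := Subtype.ext (by
    show _ = (_ : Matrix (Fin 2) (Fin 2) F) * _
    ext i j
    fin_cases i <;> fin_cases j <;> simp [Matrix.mul_apply, Fin.sum_univ_two] <;> field_simp <;> ring)

theorem scaleHom_coe (s : Fˣ) (M : SL(2, F)) :
    (scaleHom s M).1 = !![M.1 0 0, M.1 0 1 * s; M.1 1 0 * ((s⁻¹ : Fˣ) : F), M.1 1 1] := rfl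

theorem scaleHom_injective (s : Fˣ) : Function.Injective (scaleHom (F := F) s) := fun M N h => by
  have h' : ∀ i j, (!![M.1 0 0, M.1 0 1 * s; M.1 1 0 * ((s⁻¹ : Fˣ) : F), M.1 1 1] : Matrix (Fin 2) (Fin 2) F) i j =
      !![N.1 0 0, N.1 0 1 * s; N.1 1 0 * ((s⁻¹ : Fˣ) : F), N.1 1 1] i j :=
    fun i j => congrArg (fun X : SL(2, F) => X.1 i j) h
  ext i j
  fin_cases i <;> fin_cases j
  · simpa using h' 0 0
  · simpa using h' 0 1
  · simpa using h' 1 0
  · simpa using h' 1 1

theorem top_of_flip_invariant [Fintype F] {ν : Fˣ} (hν : orderOf ν = Fintype.card F - 1)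
    (K : Subgroup SL(2, F)) (hflip : ∀ x ∈ K, flip2 x ∈ K) {b0 : F} (hb0 : b0 ≠ 0) (hu : uM b0 ∈ K)
    (hscale : ∀ b, uM b ∈ K → uM ((ν : F) ^ 2 * b) ∈ K) : K = ⊤ := by
  let S : AddSubgroup F :=
    { carrier := {b | uM (b0 * b) ∈ K}
      zero_mem' := by simp [uM_zero, one_mem]
      add_mem' := fun {a b} ha hb => by
        simp only [Set.mem_setOf_eq] at ha hb ⊢
        rw [mul_add, uM_add]; exact mul_mem ha hb
      neg_mem' := fun {a} ha => by
        simp only [Set.mem_setOf_eq] at ha ⊢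
        rw [mul_neg, show uM (-(b0 * a)) = (uM (b0 * a))⁻¹ from
          eq_inv_of_mul_eq_one_left (by rw [← uM_add, neg_add_cancel, uM_zero])]
        exact inv_mem ha }
  have hsq : ∀ a : F, a * a ∈ S := by
    intro a
    rcases eq_or_ne a 0 with rfl | ha
    · rw [zero_mul]; exact S.zero_mem
    obtain ⟨i, rfl⟩ := exists_pow_eq hν ha
    rw [← mul_pow, ← pow_two]
    clear ha
    induction i with
    | zero => show uM (b0 * _) ∈ K; rw [pow_zero, mul_one]; exact hu
    | succ i ih =>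
      show uM (b0 * _) ∈ K
      rw [pow_succ', mul_left_comm]
      exact hscale _ ih
  have hall : ∀ b, uM b ∈ K := fun b => by
    have := SLMult.Sys.squares_generate S hsq (b0⁻¹ * b)
    change uM (b0 * (b0⁻¹ * b)) ∈ K at this
    rwa [← mul_assoc, mul_inv_cancel₀ hb0, one_mul] at this
  refine Classical.sl_eq_top_of_transvection K fun i j hij c => ?_
  rw [← SLMult.tx_eq hij]
  fin_cases i <;> fin_cases j <;> simp at hij
  · exact (uM_eq_tx c) ▸ hall c
  · exact flip2_tx01 c ▸ hflip _ ((uM_eq_tx c) ▸ hall c)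

theorem flip_closure (g : SL(2, F)) :
    ∀ x ∈ Subgroup.closure ({g, flip2 g} : Set SL(2, F)),
      flip2 x ∈ Subgroup.closure ({g, flip2 g} : Set SL(2, F)) := by
  intro x hx
  induction hx using Subgroup.closure_induction with
  | mem y hy =>
    rcases hy with rfl | rfl
    · exact Subgroup.subset_closure (Or.inr rfl)
    · rw [flip2_flip2]; exact Subgroup.subset_closure (Or.inl rfl)
  | one => rw [map_one]; exact one_mem _
  | mul a b _ _ ha hb => rw [map_mul]; exact mul_mem ha hb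
  | inv a _ ha => rw [map_inv]; exact inv_mem ha

/-- A semisimple element with a suitable unipotent part and its flip. -/
theorem borel_gen [Fintype F] {ν : Fˣ} (hν : orderOf ν = Fintype.card F - 1) {a : F} (ha : a ≠ 0)
    (hrel : a ^ 2 * ((ν : F) + ((ν⁻¹ : Fˣ) : F)) = -((ν : F) + 2 * ((ν⁻¹ : Fˣ) : F)))
    (hne : ((ν : F) ^ 2 + ((ν⁻¹ : Fˣ) : F) ^ 2) * ((ν : F) + ((ν⁻¹ : Fˣ) : F)) ≠ (ν : F)) :
    ∃ g : SL(2, F), Subgroup.closure ({g, flip2 g} : Set SL(2, F)) = ⊤ := by
  have hνμ : (ν : F) * ((ν⁻¹ : Fˣ) : F) = 1 := Units.mul_inv ν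
  refine ⟨uM (a * ν) * dM ν, ?_⟩
  set g := uM (a * ν) * dM ν with hg
  set μ : F := ((ν⁻¹ : Fˣ) : F) with hμ
  set K := Subgroup.closure ({g, flip2 g} : Set SL(2, F))
  have hgc : g.1 = !![(ν : F), a; 0, μ] := by
    rw [hg, Matrix.SpecialLinearGroup.coe_mul, uM_coe, dM_coe]
    ext i j
    fin_cases i <;> fin_cases j <;> simp [Matrix.mul_apply, Fin.sum_univ_two, hμ]
  have hfc : (flip2 g).1 = !![μ, 0; a, (ν : F)] := by
    rw [flip2_coe, hgc]; rfl
  have hgK : g ∈ K := Subgroup.subset_closure (Or.inl rfl)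
  have hfK : flip2 g ∈ K := Subgroup.subset_closure (Or.inr rfl)
  set P := flip2 g * g * (flip2 g * flip2 g) with hP
  have hPK : P ∈ K := mul_mem (mul_mem hfK hgK) (mul_mem hfK hfK)
  have hp10 : P.1 1 0 = 0 := by
    simp only [hP, Matrix.SpecialLinearGroup.coe_mul, hgc, hfc, Matrix.mul_apply, Fin.sum_univ_two]
    simp
    linear_combination a * hrel + (2 * a * μ + a * (ν : F)) * hνμ
  have hp : P.1 0 0 * P.1 1 1 = 1 := by
    have := P.2
    rw [det_fin_two, hp10, mul_zero, sub_zero] at this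
    exact this
  have hncomm : g.1 0 0 * P.1 0 1 + g.1 0 1 * P.1 1 1 ≠ P.1 0 0 * g.1 0 1 + P.1 0 1 * g.1 1 1 := by
    intro h
    simp only [hP, Matrix.SpecialLinearGroup.coe_mul, hgc, hfc, Matrix.mul_apply,
      Fin.sum_univ_two] at h
    simp at h
    refine hne (mul_left_cancel₀ ha ?_)
    linear_combination ((ν : F) + μ) * h - (a * ((ν : F) ^ 2 - μ * ((ν : F) + μ))) * hrel +
      a * (-2 * (ν : F) ^ 3 + 2 * (ν : F) * μ ^ 2 - (ν : F) ^ 2 * μ + μ ^ 3 + (ν : F)) * hνμ
  -- the commutator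
  set Cm := P * g * P⁻¹ * g⁻¹ with hC
  have hCK : Cm ∈ K := mul_mem (mul_mem (mul_mem hPK hgK) (inv_mem hPK)) (inv_mem hgK)
  obtain ⟨b0, hb⟩ : ∃ b0, Cm = uM b0 := by
    refine ⟨Cm.1 0 1, ?_⟩
    ext i j
    simp only [hC, Matrix.SpecialLinearGroup.coe_mul, Matrix.SpecialLinearGroup.coe_inv,
      adjugate_fin_two, uM_coe]
    fin_cases i <;> fin_cases j <;>
      simp [Matrix.mul_apply, Fin.sum_univ_two, hp10, hgc]
    · linear_combination ((ν : F) * μ) * hp + hνμ
    · linear_combination (μ * (ν : F)) * hp + hνμ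
  have hb0 : b0 ≠ 0 := by
    intro h0
    rw [h0, uM_zero, hC, mul_inv_eq_one, mul_inv_eq_iff_eq_mul] at hb
    have := congrArg (fun M : SL(2, F) => M.1 0 1) hb
    simp only [Matrix.SpecialLinearGroup.coe_mul, Matrix.mul_apply, Fin.sum_univ_two] at this
    exact hncomm this.symm
  refine top_of_flip_invariant hν K (flip_closure g) hb0 (hb ▸ hCK) fun b hbK => ?_
  have : g * uM b * g⁻¹ = uM ((ν : F) ^ 2 * b) := by
    have hu : uM (a * ν) * uM ((ν : F) ^ 2 * b) = uM ((ν : F) ^ 2 * b) * uM (a * ν) := by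
      rw [← uM_add, ← uM_add, add_comm]
    rw [show g * uM b * g⁻¹ = uM (a * ν) * (dM ν * uM b * (dM ν)⁻¹) * (uM (a * ν))⁻¹ by
      rw [hg]; group, dM_conj_uM, hu, mul_inv_cancel_right]
  exact this ▸ mul_mem (mul_mem hgK hbK) (inv_mem hgK)

theorem exists_one_gen (F : Type u) [Field F] [Fintype F] :
    ∃ g : SL(2, F), Subgroup.closure ({g, flip2 g} : Set SL(2, F)) = ⊤ := by
  classical
  obtain ⟨ν, hν⟩ := exists_gen_unit F
  have hq1 := Fintype.one_lt_card (α := F)
  have hνne : ∀ k, 0 < k → k < Fintype.card F - 1 → ν ^ k ≠ 1 := fun k h0 hk h => by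
    have := Nat.le_of_dvd h0 (orderOf_dvd_of_pow_eq_one h)
    omega
  have hq3 : Fintype.card F ≤ 3 → ∃ g : SL(2, F),
      Subgroup.closure ({g, flip2 g} : Set SL(2, F)) = ⊤ := by
    intro hq
    refine ⟨uM 1, top_of_flip_invariant hν _ (flip_closure _) one_ne_zero
      (Subgroup.subset_closure (Or.inl rfl)) fun b hb => ?_⟩
    have h2 : ν ^ 2 = 1 := by
      have := pow_orderOf_eq_one ν
      rw [hν] at this
      rcases (show Fintype.card F - 1 = 1 ∨ Fintype.card F - 1 = 2 by omega) with h | h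
      · rw [h, pow_one] at this
        rw [this, one_pow]
      · rwa [h] at this
    rwa [← Units.val_pow_eq_pow_val, h2, Units.val_one, one_mul]
  by_cases hq : Fintype.card F ≤ 3
  · exact hq3 hq
  have hsub : Subfield.closure ({(ν : F) ^ 2} : Set F) = ⊤ := by
    rw [eq_top_iff]
    intro x _
    refine SLMult.Sys.squares_generate (Subfield.closure ({(ν : F) ^ 2} : Set F)).toAddSubgroup
      (fun a => ?_) x
    rcases eq_or_ne a 0 with rfl | ha
    · rw [zero_mul]; exact zero_mem _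
    obtain ⟨i, rfl⟩ := exists_pow_eq hν ha
    rw [← mul_pow, ← pow_two]
    exact pow_mem (show (ν : F) ^ 2 ∈ Subfield.closure ({(ν : F) ^ 2} : Set F) from
      Subfield.subset_closure rfl) i
  by_cases h2 : (2 : F) = 0
  · -- characteristic two
    have key : ∀ η : Fˣ, orderOf η = Fintype.card F - 1 →
        ((η : F) ^ 2 + ((η⁻¹ : Fˣ) : F) ^ 2) * ((η : F) + ((η⁻¹ : Fˣ) : F)) ≠ (η : F) →
        ∃ g : SL(2, F), Subgroup.closure ({g, flip2 g} : Set SL(2, F)) = ⊤ := by
      intro η hη hne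
      set μ : F := ((η⁻¹ : Fˣ) : F) with hμ
      have hsum : (η : F) + μ ≠ 0 := by
        intro h
        have h1 : (η : F) = μ := by linear_combination h - μ * h2
        have h3 : η ^ 2 = 1 := Units.ext (by
          rw [Units.val_pow_eq_pow_val, Units.val_one, pow_two]
          conv_lhs => arg 2; rw [h1]
          exact Units.mul_inv η)
        have := Nat.le_of_dvd two_pos (orderOf_dvd_of_pow_eq_one h3)
        omega
      have hchar : ringChar F = 2 := by
        have : ((2 : ℕ) : F) = 0 := by exact_mod_cast h2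
        rcases (Nat.dvd_prime Nat.prime_two).mp ((ringChar.spec F 2).mp this) with h | h
        · exact absurd h (CharP.ringChar_ne_one)
        · exact h
      obtain ⟨a, ha⟩ := FiniteField.isSquare_of_char_two hchar ((η : F) / ((η : F) + μ))
      refine borel_gen hη (a := a) ?_ ?_ hne
      · rintro rfl
        rw [mul_zero, div_eq_zero_iff] at ha
        exact ha.elim η.ne_zero hsum
      · rw [pow_two, ← ha, div_mul_cancel₀ _ hsum]
        linear_combination ((η : F) + μ) * h2
    by_cases hne : ((ν : F) ^ 2 + ((ν⁻¹ : Fˣ) : F) ^ 2) * ((ν : F) + ((ν⁻¹ : Fˣ) : F)) = (ν : F)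
    · refine key ν⁻¹ (by rw [orderOf_inv, hν]) fun h => ?_
      rw [inv_inv] at h
      have h1 : (ν : F) = ((ν⁻¹ : Fˣ) : F) := by linear_combination h - hne
      have h3 : ν ^ 2 = 1 := Units.ext (by
        rw [Units.val_pow_eq_pow_val, Units.val_one, pow_two]
        conv_lhs => arg 2; rw [h1]
        exact Units.mul_inv ν)
      exact hνne 2 two_pos (by omega) h3
    · exact key ν hν hne
  by_cases h9 : Fintype.card F = 9
  · -- nine elements
    have hchar3 : (3 : F) = 0 := by
      obtain ⟨p, hp⟩ := CharP.exists F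
      obtain ⟨m, hpp, hm⟩ := FiniteField.card F p
      have h3 : p = 3 := by
        rw [h9] at hm
        have : p ∣ 3 ^ 2 := by rw [show 3 ^ 2 = p ^ (m : ℕ) from hm]; exact dvd_pow_self p m.ne_zero
        exact (Nat.prime_dvd_prime_iff_eq hpp Nat.prime_three).1 (hpp.dvd_of_dvd_pow this)
      subst h3
      exact_mod_cast CharP.cast_eq_zero F 3
    have h8 : ν ^ 8 = 1 := by
      have := pow_orderOf_eq_one ν
      rwa [hν, h9] at this
    have h4 : (ν : F) ^ 4 = -1 := by
      have h := hνne 4 (by norm_num) (by omega)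
      rcases mul_self_eq_one_iff.mp (show (ν : F) ^ 4 * (ν : F) ^ 4 = 1 by
        rw [← pow_add, ← Units.val_pow_eq_pow_val, h8, Units.val_one]) with e | e
      · exact absurd (Units.ext (by simpa using e) : ν ^ 4 = 1) h
      · exact e
    have hμ : ((ν⁻¹ : Fˣ) : F) = -(ν : F) ^ 3 := by
      have h := Units.mul_inv ν
      refine mul_left_cancel₀ ν.ne_zero (h.trans ?_)
      linear_combination h4
    rcases eq_or_ne (ν : F) 0 with h0 | h0
    · exact absurd h0 ν.ne_zero
    refine borel_gen hν (a := (ν : F) ^ 3) (pow_ne_zero _ h0) ?_ ?_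
    · rw [hμ]
      linear_combination (-(ν : F) ^ 5 + (ν : F) ^ 3 + (ν : F)) * h4 - (ν : F) ^ 3 * hchar3
    · rw [hμ]
      intro e
      apply h0
      linear_combination -e + ((ν : F) ^ 3 - (ν : F) ^ 5) * h4
  · -- odd characteristic
    refine ⟨uM (ν : F), ?_⟩
    have hlam := Classical.TwoTrans.top_of_not_exceptional h2 (lam := (ν : F) ^ 2)
      (pow_ne_zero _ ν.ne_zero) hsub (fun h => h9 h.1)
    rw [eq_top_iff]
    intro x _
    have hx : scaleHom ν x ∈ (Subgroup.closure ({uM (ν : F), flip2 (uM (ν : F))} :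
        Set SL(2, F))).map (scaleHom ν) := by
      rw [MonoidHom.map_closure, Set.image_pair]
      have e1 : scaleHom ν (uM (ν : F)) = upR ((ν : F) ^ 2) := by
        apply Subtype.ext
        ext i j
        fin_cases i <;> fin_cases j <;> simp [scaleHom_coe, uM_coe, coe_upR, pow_two]
      have e2 : scaleHom ν (flip2 (uM (ν : F))) = lowR 1 := by
        apply Subtype.ext
        ext i j
        fin_cases i <;> fin_cases j <;> simp [scaleHom_coe, flip2_coe, uM_coe, coe_lowR]
      rw [e1, e2, Set.pair_comm, hlam]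
      exact Subgroup.mem_top _
    obtain ⟨y, hy, e⟩ := hx
    exact scaleHom_injective ν e ▸ hy

end Cfsg.Agent.SLShort
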