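import Cfsg.Agent.SLShort.Model
import Cfsg.Agent.SLShort.OneGen
import Cfsg.Agent.SLShort.Pres
import Cfsg.Agent.ShortPres.SLPres
import Cfsg.Agent.SL3Pres.Main

/-!
# `SL(n, F)` from a group over `Alt(n)` and a copy of `SL(3, F)`
-/

set_option autoImplicit false

namespace Cfsg.Agent.SLShort

open Matrix Equiv Equiv.Perm Cfsg.Agent.SLMult Cfsg.Agent.ShortPres Cfsg.Agent.CurtisTitsA Cfsg.Agent.AltMult
open scoped MatrixGroups commutatorElement

universe u

variable {n : ℕ} {H : Type} [Group H] (π : H →* alternatingGroup (Fin n))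

/-- Point number `i < 4`. -/
def z (hn : 4 ≤ n) (i : Fin 4) : Fin n := Fin.castLE hn i

theorem z_injective (hn : 4 ≤ n) : Function.Injective (z hn) := Fin.castLE_injective hn

/-- An element stabilising the first two points as a set; the truth value says it swaps them. -/
def Moves (hn : 4 ≤ n) (h : H) (b : Bool) : Prop :=
  (π h).1 (z hn 0) = (if b then z hn 1 else z hn 0) ∧
    (π h).1 (z hn 1) = (if b then z hn 0 else z hn 1)

/-- The conjugation rules on `D` extend to the whole set stabiliser of the first two points. -/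
def StabData (hn : 4 ≤ n) (D : Finset (H × Bool × Bool)) : Prop :=
  (∀ d ∈ D, Moves π hn d.1 d.2.1) ∧
    ∀ {Q : Type u} [Group Q] (φ : H →* Q) (P : Bool → Q),
      (∀ d ∈ D, φ d.1 * P d.2.2 * (φ d.1)⁻¹ = P (xor d.2.1 d.2.2)) →
      ∀ h b c, Moves π hn h b → φ h * P c * (φ h)⁻¹ = P (xor b c)

variable {F : Type u} [Field F] [Fintype F]

theorem sl_glue (hn : 4 ≤ n) (hπ : Function.Surjective π) (h0 : H)
    (hh0 : π h0 = cycA (z hn 0) (z hn 1) (z hn 2) ((z_injective hn).ne (by decide))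
      ((z_injective hn).ne (by decide)))
    (hnc : Subgroup.normalClosure ({h0} : Set H) = ⊤)
    (D : Finset (H × Bool × Bool)) (hD : StabData.{u} π hn D) (Dsd : Finset Bool)
    (hsd : false ∈ Dsd ∧ (true ∈ Dsd ∨ 6 ≤ n)) :
    ∃ Φ : Monoid.Coprod H (SpecialLinearGroup (Fin 3) F) →* SpecialLinearGroup (Fin n) F,
      Function.Surjective Φ ∧ ∃ (w : SpecialLinearGroup (Fin 3) F)
        (S : Finset (Monoid.Coprod H (SpecialLinearGroup (Fin 3) F))),
        S.card ≤ D.card + Dsd.card ∧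
        Φ.ker = Subgroup.normalClosure
          (insert (Monoid.Coprod.inl h0 * (Monoid.Coprod.inr w)⁻¹) (S : Set _)) := by
  classical
  have hn3 : 3 ≤ n := by omega
  have hz : ∀ {i j : Fin 4}, i ≠ j → z hn i ≠ z hn j := fun h => (z_injective hn).ne h
  have hp3 : ∀ a : Fin 3, pt3 hn3 a = z hn a.castSucc := fun a => rfl
  let z0 : Fin n := z hn 0
  let z1 : Fin n := z hn 1
  let z2 : Fin n := z hn 2
  let z3 : Fin n := z hn 3
  have h01 : z0 ≠ z1 := hz (by decide)
  have h02 : z0 ≠ z2 := hz (by decide)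
  have h03 : z0 ≠ z3 := hz (by decide)
  have h12 : z1 ≠ z2 := hz (by decide)
  have h13 : z1 ≠ z3 := hz (by decide)
  have h23 : z2 ≠ z3 := hz (by decide)
  obtain ⟨E, hE⟩ := exists_emb3 (F := F) hn3
  obtain ⟨g, hg⟩ := exists_one_gen F
  let P2 : Bool → SL(2, F) := fun b => if b then flip2 g else g
  have hP2 : ∀ b, P2 (!b) = flip2 (P2 b) := fun b => by
    cases b <;> simp [P2, flip2_flip2]
  let C := Monoid.Coprod H (SpecialLinearGroup (Fin 3) F)
  let ι : H →* C := Monoid.Coprod.inl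
  let κ : SpecialLinearGroup (Fin 3) F →* C := Monoid.Coprod.inr
  let Φ : C →* SpecialLinearGroup (Fin n) F := Monoid.Coprod.lift (permMat.comp π) E
  have hΦι : ∀ h, Φ (ι h) = permMat (π h) := fun h => Monoid.Coprod.lift_apply_inl _ _ h
  have hΦκ : ∀ s, Φ (κ s) = E s := fun s => Monoid.Coprod.lift_apply_inr _ _ s
  let κ2 : SL(2, F) →* C := κ.comp (emb (show (0 : Fin 3) ≠ 1 by decide))
  have hΦκ2 : ∀ s, Φ (κ2 s) = emb h01 s := fun s => by
    show Φ (κ (emb _ s)) = _
    rw [hΦκ, emb3_emb hn3 E hE]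
    rfl
  -- blocks
  have hpair : ∀ i j : Fin n, i ≠ j → ∃ h : H,
      ((π h).1 z0 = i ∧ (π h).1 z1 = j) ∨ ((π h).1 z0 = j ∧ (π h).1 z1 = i) := by
    intro i j hij
    obtain ⟨g, h | h⟩ := exists_alt_map (m := 0) ![z0, z1] ![i, j]
      (by intro a b; fin_cases a <;> fin_cases b <;> simp [h01, h01.symm])
      (by intro a b; fin_cases a <;> fin_cases b <;> simp [hij, hij.symm])
    · obtain ⟨h', rfl⟩ := hπ g
      exact ⟨h', Or.inl ⟨h 0, h 1⟩⟩
    · obtain ⟨h', rfl⟩ := hπ g
      exact ⟨h', Or.inr ⟨h 1, h 0⟩⟩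
  let gp : Fin n → Fin n → H := fun i j => if h : i ≠ j then (hpair i j h).choose else 1
  have hgp : ∀ i j, i ≠ j → ((π (gp i j)).1 z0 = i ∧ (π (gp i j)).1 z1 = j) ∨
      ((π (gp i j)).1 z0 = j ∧ (π (gp i j)).1 z1 = i) := fun i j h => by
    simp only [gp, dif_pos h]
    exact (hpair i j h).choose_spec
  let LC : Fin n → Fin n → (SL(2, F) →* C) := fun i j =>
    (MulAut.conj (ι (gp i j))).toMonoidHom.comp
      (κ2.comp (if (π (gp i j)).1 z0 = i then MonoidHom.id _ else flip2))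
  have hΦLC : ∀ i j (hij : i ≠ j) s, Φ (LC i j s) = emb hij s := by
    intro i j hij s
    simp only [LC, MonoidHom.comp_apply, MulEquiv.coe_toMonoidHom, MulAut.conj_apply, map_mul,
      map_inv]
    rw [hΦι, show Φ (κ2 _) = _ from hΦκ2 _, emb_conj]
    rcases hgp i j hij with ⟨a, b⟩ | ⟨a, b⟩
    · rw [if_pos a]
      simp only [a, b, MonoidHom.id_apply]
    · rw [if_neg (by rw [a]; exact hij.symm)]
      simp only [a, b]
      rw [emb_swap hij, flip2_flip2]
  have hΦs : Function.Surjective Φ := by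
    rw [← MonoidHom.range_eq_top]
    refine Classical.sl_eq_top_of_transvection _ fun i j hij c => ?_
    exact ⟨LC i j (tx 0 1 c), by rw [hΦLC i j hij, emb_tx01, tx_eq hij]⟩
  -- relations
  let w : SpecialLinearGroup (Fin 3) F := permMat c3
  have hw : Φ (ι h0) = Φ (κ w) := by
    rw [hΦι, hΦκ, hh0, emb3_cyc hn3 E hE]
    rfl
  let com : C → C → C := fun x y => x * y * x⁻¹ * y⁻¹
  let rstab : H × Bool × Bool → C := fun d =>
    ι d.1 * κ2 (P2 d.2.2) * (ι d.1)⁻¹ * (κ2 (P2 (xor d.2.1 d.2.2)))⁻¹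
  let rsd : Bool → C := fun b => com (LC z0 z1 g) (LC z2 z3 (P2 b))
  let S : Finset C := D.image rstab ∪ Dsd.image rsd
  have hS : ∀ x ∈ insert (ι h0 * (κ w)⁻¹) (S : Set C), Φ x = 1 := by
    intro x hx
    rcases Set.mem_insert_iff.mp hx with rfl | hx
    · rw [map_mul, map_inv, hw, mul_inv_cancel]
    rcases Finset.mem_union.mp (Finset.mem_coe.mp hx) with hx | hx
    · obtain ⟨⟨h, b, c⟩, hd, rfl⟩ := Finset.mem_image.mp hx
      obtain ⟨m0, m1⟩ := hD.1 _ hd
      simp only [rstab]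
      rw [map_mul, map_mul, map_mul, map_inv, map_inv, hΦι, hΦκ2, hΦκ2, emb_conj, mul_inv_eq_one]
      simp only [show (π h).1 z0 = _ from m0, show (π h).1 z1 = _ from m1]
      cases b
      · simp only [Bool.false_xor]
      · simp only [Bool.true_xor, if_true]
        rw [hP2 c, emb_swap h01]
    · obtain ⟨b, -, rfl⟩ := Finset.mem_image.mp hx
      show Φ (_ * _ * _⁻¹ * _⁻¹) = 1
      rw [map_mul, map_mul, map_mul, map_inv, map_inv, hΦLC z0 z1 h01, hΦLC z2 z3 h23,
        (emb_disjoint h01 h23 h02 h03 h12 h13 _ _).eq]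
      group
  refine ⟨Φ, hΦs, w, S, (Finset.card_union_le _ _).trans
    (Nat.add_le_add Finset.card_image_le Finset.card_image_le), ?_⟩
  refine ker_eq_normalClosure _ _ hS fun c hc => ?_
  set N := Subgroup.normalClosure (insert (ι h0 * (κ w)⁻¹) (S : Set C))
  let q : C →* C ⧸ N := QuotientGroup.mk' N
  have hrel : ∀ y ∈ insert (ι h0 * (κ w)⁻¹) (S : Set C), q y = 1 := fun y hy =>
    (QuotientGroup.eq_one_iff _).mpr (Subgroup.subset_normalClosure hy)
  let φ : H →* C ⧸ N := q.comp ι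
  let ψ3 : SpecialLinearGroup (Fin 3) F →* C ⧸ N := q.comp κ
  let ψ : SL(2, F) →* C ⧸ N := q.comp κ2
  have hφ0 : φ h0 = ψ3 w := by
    have := hrel _ (Set.mem_insert _ _)
    rwa [map_mul, map_inv, mul_inv_eq_one] at this
  -- the stabiliser of the first two points
  have hext : ∀ (f f' : SL(2, F) →* C ⧸ N), f g = f' g → f (flip2 g) = f' (flip2 g) →
      ∀ s, f s = f' s := by
    intro f f' h1 h2 s
    refine DFunLike.congr_fun (MonoidHom.eq_of_eqOn_dense hg ?_) s
    rintro x (rfl | rfl)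
    · exact h1
    · exact h2
  have hst : ∀ h b c, Moves π hn h b → φ h * ψ (P2 c) * (φ h)⁻¹ = ψ (P2 (xor b c)) :=
    hD.2 φ (fun c => ψ (P2 c)) fun d hd => by
      have h1 := hrel (rstab d) (Set.mem_insert_of_mem _
        (Finset.mem_coe.mpr (Finset.mem_union_left _ (Finset.mem_image_of_mem _ hd))))
      simp only [rstab] at h1
      rw [map_mul, map_mul, map_mul, map_inv, map_inv, mul_inv_eq_one] at h1
      exact h1
  have hfix : ∀ h, (π h).1 z0 = z0 → (π h).1 z1 = z1 → ∀ s, φ h * ψ s * (φ h)⁻¹ = ψ s := by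
    intro h a b s
    exact hext ((MulAut.conj (φ h)).toMonoidHom.comp ψ) ψ (hst h false false ⟨a, b⟩)
      (hst h false true ⟨a, b⟩) s
  have hswap : ∀ h, (π h).1 z0 = z1 → (π h).1 z1 = z0 →
      ∀ s, φ h * ψ s * (φ h)⁻¹ = ψ (flip2 s) := by
    intro h a b s
    refine hext ((MulAut.conj (φ h)).toMonoidHom.comp ψ) (ψ.comp flip2)
      (hst h true false ⟨a, b⟩) ?_ s
    have := hst h true true ⟨a, b⟩
    simp only [MonoidHom.comp_apply, MulEquiv.coe_toMonoidHom, MulAut.conj_apply, flip2_flip2]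
    exact this
  -- blocks in the quotient
  let LP : Fin n → Fin n → (SL(2, F) →* C ⧸ N) := fun i j => q.comp (LC i j)
  have hLP : ∀ i j s, LP i j s = φ (gp i j) *
      ψ ((if (π (gp i j)).1 z0 = i then MonoidHom.id _ else flip2) s) * (φ (gp i j))⁻¹ := by
    intro i j s
    show q (ι (gp i j) * κ2 _ * (ι (gp i j))⁻¹) = _
    rw [map_mul, map_mul, map_inv]
    rfl
  have wd : ∀ (g : H) (i j : Fin n), i ≠ j → ∀ s,
      ((π g).1 z0 = i ∧ (π g).1 z1 = j → φ g * ψ s * (φ g)⁻¹ = LP i j s) ∧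
      ((π g).1 z0 = j ∧ (π g).1 z1 = i → φ g * ψ (flip2 s) * (φ g)⁻¹ = LP i j s) := by
    intro g i j hij s
    rw [hLP]
    set h := (gp i j)⁻¹ * g with hh
    have hg : φ g = φ (gp i j) * φ h := by rw [← map_mul, hh, mul_inv_cancel_left]
    have key : ∀ t t', φ h * ψ t * (φ h)⁻¹ = ψ t' →
        φ g * ψ t * (φ g)⁻¹ = φ (gp i j) * ψ t' * (φ (gp i j))⁻¹ := fun t t' e => by
      rw [hg, ← e]; group
    have hval : ∀ x y, (π g).1 x = (π (gp i j)).1 y → (π h).1 x = y := fun x y e => by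
      rw [hh, map_mul, map_inv]
      show (π (gp i j)).1⁻¹ ((π g).1 x) = y
      rw [e]; simp
    rcases hgp i j hij with ⟨p0, p1⟩ | ⟨p0, p1⟩
    · rw [if_pos p0]
      exact ⟨fun ⟨a, b⟩ => key _ _ (hfix h (hval _ _ (a.trans p0.symm)) (hval _ _ (b.trans p1.symm)) s),
        fun ⟨a, b⟩ => key _ _ ((hswap h (hval _ _ (a.trans p1.symm)) (hval _ _ (b.trans p0.symm)) _).trans
          (by rw [flip2_flip2]; rfl))⟩
    · rw [if_neg (by rw [p0]; exact hij.symm)]
      exact ⟨fun ⟨a, b⟩ => key _ _ (hswap h (hval _ _ (a.trans p1.symm)) (hval _ _ (b.trans p0.symm)) s),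
        fun ⟨a, b⟩ => key _ _ (hfix h (hval _ _ (a.trans p0.symm)) (hval _ _ (b.trans p1.symm)) _)⟩
  have hsym : ∀ i j, i ≠ j → ∀ s, LP j i s = LP i j (flip2 s) := by
    intro i j hij s
    rcases hgp i j hij with h | h
    · rw [← ((wd (gp i j) j i hij.symm s).2 h), ((wd (gp i j) i j hij (flip2 s)).1 h)]
    · rw [← ((wd (gp i j) j i hij.symm s).1 h), ← ((wd (gp i j) i j hij (flip2 s)).2 h), flip2_flip2]
  have hequi : ∀ (h : H) i j, i ≠ j → ∀ s,
      φ h * LP i j s * (φ h)⁻¹ = LP ((π h).1 i) ((π h).1 j) s := by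
    intro h i j hij s
    have hne : (π h).1 i ≠ (π h).1 j := (π h).1.injective.ne hij
    rcases hgp i j hij with ⟨a, b⟩ | ⟨a, b⟩
    · rw [← ((wd (gp i j) i j hij s).1 ⟨a, b⟩),
        ← ((wd (h * gp i j) _ _ hne s).1 ⟨by simp [a], by simp [b]⟩), map_mul]
      group
    · rw [← ((wd (gp i j) i j hij s).2 ⟨a, b⟩),
        ← ((wd (h * gp i j) _ _ hne s).2 ⟨by simp [a], by simp [b]⟩), map_mul]
      group
  -- the block of rank two
  let p3 : Fin 3 ↪ Fin n := pt3 hn3
  have hblock : ∀ (a b : Fin 3) (hab : a ≠ b) s, LP (p3 a) (p3 b) s = ψ3 (emb hab s) := by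
    have hcyc : ∀ m : ℕ, φ (h0 ^ m) = ψ3 (permMat (c3 ^ m)) := fun m => by
      rw [map_pow, hφ0, ← map_pow, ← map_pow]
    have hπm : ∀ (m : ℕ) (a : Fin 3), (π (h0 ^ m)).1 (p3 a) = p3 ((c3 ^ m).1 a) := by
      intro m
      induction m with
      | zero => intro a; simp
      | succ m ih =>
        intro a
        rw [pow_succ, pow_succ, map_mul]
        show (π (h0 ^ m)).1 ((π h0).1 (p3 a)) = p3 ((c3 ^ m).1 (c3.1 a))
        rw [← ih, hh0]
        congr 1
        fin_cases a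
        · exact cyc_apply_left h01 h12
        · exact cyc_apply_mid
        · exact cyc_apply_right h02 h12
    have base : ∀ (m : ℕ) s, LP (p3 ((c3 ^ m).1 0)) (p3 ((c3 ^ m).1 1)) s =
        ψ3 (emb ((c3 ^ m).1.injective.ne (show (0 : Fin 3) ≠ 1 by decide)) s) := by
      intro m s
      rw [← ((wd (h0 ^ m) _ _ (p3.injective.ne ((c3 ^ m).1.injective.ne (by decide))) s).1
        ⟨hπm m 0, hπm m 1⟩), hcyc, ← emb_conj (c3 ^ m) (show (0 : Fin 3) ≠ 1 by decide)]
      simp only [map_mul, map_inv]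
      rfl
    intro a b hab s
    have hm : ∀ a b : Fin 3, a ≠ b →
        (∃ m : Fin 3, (c3 ^ m.val).1 0 = a ∧ (c3 ^ m.val).1 1 = b) ∨
        ∃ m : Fin 3, (c3 ^ m.val).1 0 = b ∧ (c3 ^ m.val).1 1 = a := by
      decide
    rcases hm a b hab with ⟨m, rfl, rfl⟩ | ⟨m, rfl, rfl⟩
    · exact base m s
    · rw [hsym _ _ (p3.injective.ne hab.symm), base, emb_swap hab.symm]
  have htri : ∀ i j k : Fin n, i ≠ j → i ≠ k → j ≠ k → ∃ (h : H) (a b c : Fin 3),
      (π h).1 (p3 a) = i ∧ (π h).1 (p3 b) = j ∧ (π h).1 (p3 c) = k := by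
    intro i j k hij hik hjk
    obtain ⟨g, h | h⟩ := exists_alt_map (m := 1) ![z0, z1, z2] ![i, j, k]
      (by intro a b; fin_cases a <;> fin_cases b <;>
            simp [h01, h01.symm, h02, h02.symm, h12, h12.symm])
      (by intro a b; fin_cases a <;> fin_cases b <;>
            simp [hij, hij.symm, hik, hik.symm, hjk, hjk.symm])
    · obtain ⟨h', rfl⟩ := hπ g
      exact ⟨h', 0, 1, 2, h 0, h 1, h 2⟩
    · obtain ⟨h', rfl⟩ := hπ g
      exact ⟨h', 1, 0, 2, h 0, h 1, h 2⟩
  let x : Fin n → Fin n → F → C ⧸ N := fun i j a => LP i j (tx 0 1 a)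
  have hxblock : ∀ (h : H) (a b : Fin 3), a ≠ b → ∀ t,
      x ((π h).1 (p3 a)) ((π h).1 (p3 b)) t = φ h * ψ3 (tx a b t) * (φ h)⁻¹ := by
    intro h a b hab t
    show LP _ _ _ = _
    rw [← hequi h _ _ (p3.injective.ne hab), hblock a b hab, emb_tx01]
  -- disjoint blocks commute
  have hdisj : ∀ i j k l : Fin n, i ≠ j → k ≠ l → i ≠ k → i ≠ l → j ≠ k → j ≠ l →
      ∀ s t, Commute (LP i j s) (LP k l t) := by
    intro i j k l hij hkl hik hil hjk hjl
    have hcom : ∀ x y, com x y ∈ insert (ι h0 * (κ w)⁻¹) (S : Set C) → Commute (q x) (q y) :=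
      fun x y h => by
        have h1 := hrel _ h
        change q (x * y * x⁻¹ * y⁻¹) = 1 at h1
        rw [map_mul, map_mul, map_mul, map_inv, map_inv, mul_inv_eq_one, mul_inv_eq_iff_eq_mul] at h1
        exact h1
    have hmove : ∀ (h : H) i j k l s t, i ≠ j → k ≠ l → Commute (LP i j s) (LP k l t) →
        Commute (LP ((π h).1 i) ((π h).1 j) s) (LP ((π h).1 k) ((π h).1 l) t) := by
      intro h i j k l s t hij hkl hc
      have := hc.map (MulAut.conj (φ h)).toMonoidHom
      simp only [MulEquiv.coe_toMonoidHom, MulAut.conj_apply] at this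
      rwa [hequi h _ _ hij, hequi h _ _ hkl] at this
    have hrels : ∀ b ∈ Dsd, Commute (LP z0 z1 g) (LP z2 z3 (P2 b)) := fun b hb =>
      hcom _ _ (Set.mem_insert_of_mem _
        (Finset.mem_coe.mpr (Finset.mem_union_right _ (Finset.mem_image_of_mem _ hb))))
    have hA : Commute (LP z0 z1 g) (LP z2 z3 g) := hrels false hsd.1
    have lift4 : ∀ σ : Perm (Fin n), sign σ = 1 → ∃ h : H, (π h).1 = σ := fun σ hσ => by
      obtain ⟨h, hh⟩ := hπ ⟨σ, mem_alternatingGroup.mpr hσ⟩
      exact ⟨h, by rw [hh]⟩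
    have hB : Commute (LP z0 z1 g) (LP z2 z3 (flip2 g)) := by
      rcases hsd.2 with h | h6
      · exact hrels true h
      · have h45 : (⟨4, by omega⟩ : Fin n) ≠ ⟨5, by omega⟩ := by simp
        obtain ⟨h, hh⟩ := lift4 (swap z2 z3 * swap ⟨4, by omega⟩ ⟨5, by omega⟩) (by
          rw [map_mul, sign_swap h23, sign_swap h45]; rfl)
        have := hmove h z0 z1 z2 z3 g g h01 h23 hA
        simp only [hh, Perm.mul_apply] at this
        have e : ∀ i : Fin 4, swap (⟨4, by omega⟩ : Fin n) ⟨5, by omega⟩ (z hn i) = z hn i := fun i =>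
          swap_apply_of_ne_of_ne (Fin.ne_of_val_ne (by
            show i.val ≠ 4; omega)) (Fin.ne_of_val_ne (by show i.val ≠ 5; omega))
        rw [e 0, e 1, e 2, e 3, swap_apply_of_ne_of_ne h02 h03, swap_apply_of_ne_of_ne h12 h13,
          swap_apply_left, swap_apply_right, hsym z2 z3 h23] at this
        exact this
    obtain ⟨τ, hτ⟩ := lift4 (swap z0 z1 * swap z2 z3) (by
      rw [map_mul, sign_swap h01, sign_swap h23]; rfl)
    have τv : (π τ).1 z0 = z1 ∧ (π τ).1 z1 = z0 ∧ (π τ).1 z2 = z3 ∧ (π τ).1 z3 = z2 := by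
      simp [hτ, swap_apply_of_ne_of_ne, h02, h02.symm, h03, h03.symm, h12, h12.symm, h13, h13.symm]
    have hflip : ∀ s t, Commute (LP z0 z1 s) (LP z2 z3 t) →
        Commute (LP z0 z1 (flip2 s)) (LP z2 z3 (flip2 t)) := by
      intro s t hc
      have := hmove τ z0 z1 z2 z3 s t h01 h23 hc
      rwa [τv.1, τv.2.1, τv.2.2.1, τv.2.2.2, hsym z0 z1 h01, hsym z2 z3 h23] at this
    have hC' : Commute (LP z0 z1 (flip2 g)) (LP z2 z3 g) := by
      have := hflip _ _ hB
      rwa [flip2_flip2] at this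
    have hD' := hflip _ _ hA
    have hb0 : ∀ s t, Commute (LP z0 z1 s) (LP z2 z3 t) := by
      have e : ∀ (f : SL(2, F) →* C ⧸ N) (y : C ⧸ N), Commute (f g) y → Commute (f (flip2 g)) y →
          ∀ s, Commute (f s) y := by
        intro f y h1 h2 s
        have := hext f ((MulAut.conj y).toMonoidHom.comp f) (by simp [h1.symm.eq])
          (by simp [h2.symm.eq]) s
        simp only [MonoidHom.comp_apply, MulEquiv.coe_toMonoidHom, MulAut.conj_apply] at this
        rw [eq_mul_inv_iff_mul_eq] at this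
        exact this
      intro s t
      exact (e (LP z2 z3) _ (e (LP z0 z1) _ hA hC' s).symm (e (LP z0 z1) _ hB hD' s).symm t).symm
    obtain ⟨g', h | h⟩ := exists_alt_map (m := 2) ![z0, z1, z2, z3] ![i, j, k, l]
      (by intro a b; fin_cases a <;> fin_cases b <;>
            simp [h01, h01.symm, h02, h02.symm, h03, h03.symm, h12, h12.symm, h13, h13.symm, h23,
              h23.symm])
      (by intro a b; fin_cases a <;> fin_cases b <;>
            simp [hij, hij.symm, hik, hik.symm, hil, hil.symm, hjk, hjk.symm, hjl, hjl.symm, hkl,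
              hkl.symm])
    · obtain ⟨g'', rfl⟩ := hπ g'
      intro s t
      have := hmove g'' z0 z1 z2 z3 s t h01 h23 (hb0 s t)
      have e0 := h 0; have e1 := h 1; have e2 := h 2; have e3 := h 3
      simp at e0 e1 e2 e3
      rwa [e0, e1, e2, e3] at this
    · obtain ⟨g'', rfl⟩ := hπ g'
      intro s t
      have := hmove g'' z0 z1 z2 z3 (flip2 s) t h01 h23 (hb0 (flip2 s) t)
      have e0 := h 0; have e1 := h 1; have e2 := h 2; have e3 := h 3
      simp [swap_apply_of_ne_of_ne] at e0 e1 e2 e3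
      rw [e0, e1, e2, e3, hsym i j hij, flip2_flip2] at this
      exact this
  -- the Steinberg relations
  have hadd : ∀ i j, i ≠ j → ∀ a b, x i j (a + b) = x i j a * x i j b := by
    intro i j _ a b
    simp only [x]
    rw [tx_add (by decide), map_mul]
  have hcomm : ∀ i j k l, i ≠ j → k ≠ l → j ≠ k → i ≠ l → ∀ a b,
      Commute (x i j a) (x k l b) := by
    intro i j k l hij hkl hjk hil a b
    by_cases hik : i = k
    · subst hik
      by_cases hjl : j = l
      · subst hjl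
        show _ = _
        rw [← hadd i j hij, ← hadd i j hij, add_comm]
      · obtain ⟨h, α, β, γ, rfl, rfl, rfl⟩ := htri i j l hij hil hjl
        have hαβ : α ≠ β := fun e => hij (by rw [e])
        have hαγ : α ≠ γ := fun e => hil (by rw [e])
        have hβγ : β ≠ γ := fun e => hjl (by rw [e])
        rw [hxblock h α β hαβ, hxblock h α γ hαγ]
        exact ((tx_comm hαβ hαγ hαβ.symm hαγ a b).map ψ3).map (MulAut.conj (φ h)).toMonoidHom
    · by_cases hjl : j = l
      · subst hjl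
        obtain ⟨h, α, β, γ, rfl, rfl, rfl⟩ := htri i j k hij hik hjk
        have hαβ : α ≠ β := fun e => hij (by rw [e])
        have hαγ : α ≠ γ := fun e => hik (by rw [e])
        have hβγ : β ≠ γ := fun e => hjk (by rw [e])
        rw [hxblock h α β hαβ, hxblock h γ β hβγ.symm]
        exact ((tx_comm hαβ hβγ.symm hβγ hαβ a b).map ψ3).map (MulAut.conj (φ h)).toMonoidHom
      · exact hdisj i j k l hij hkl hik hil hjk hjl _ _
  have hcr : ∀ i j k, i ≠ j → j ≠ k → i ≠ k → ∀ a b, ⁅x i j a, x j k b⁆ = x i k (a * b) := by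
    intro i j k hij hjk hik a b
    obtain ⟨h, α, β, γ, rfl, rfl, rfl⟩ := htri i j k hij hik hjk
    have hαβ : α ≠ β := fun e => hij (by rw [e])
    have hαγ : α ≠ γ := fun e => hik (by rw [e])
    have hβγ : β ≠ γ := fun e => hjk (by rw [e])
    rw [hxblock h α β hαβ, hxblock h β γ hβγ, hxblock h α γ hαγ, ← tx_rel hαβ hβγ hαγ a b,
      map_commutatorElement]
    simp only [commutatorElement_def]
    group
  have : Finite F := inferInstance
  obtain ⟨f, hf⟩ := SteinbergSL.exists_hom (K := F) hn3 x hadd hcomm hcr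
  have hftx : ∀ i j, i ≠ j → ∀ a, f (tx i j a) = x i j a := fun i j h a => by
    rw [tx_eq h]; exact hf i j h a
  -- the two halves factor through `f`
  have hψ3 : f.comp E = ψ3 := by
    refine hom_extN fun a b hab t => ?_
    rw [MonoidHom.comp_apply, hE a b hab, hftx _ _ ((pt3 hn3).injective.ne hab)]
    show LP (p3 a) (p3 b) _ = _
    rw [hblock a b hab, emb_tx01]
  have hconj : ∀ (h : H) y, φ h * f y * (φ h)⁻¹ = f (permMat (π h) * y * (permMat (π h))⁻¹) := by
    intro h y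
    refine DFunLike.congr_fun (f := (MulAut.conj (φ h)).toMonoidHom.comp f)
      (g := f.comp (MulAut.conj (permMat (π h) : SpecialLinearGroup (Fin n) F)).toMonoidHom) ?_ y
    refine hom_extN fun i j hij t => ?_
    simp only [MonoidHom.comp_apply, MulEquiv.coe_toMonoidHom, MulAut.conj_apply]
    rw [permMat_conj _ hij, hftx _ _ hij, hftx _ _ ((π h).1.injective.ne hij)]
    exact hequi h i j hij _
  let K : Subgroup H := φ.eqLocus (f.comp (permMat.comp π))
  have hKn : K.Normal := ⟨fun k (hk : φ k = f (permMat (π k))) h => by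
    show φ (h * k * h⁻¹) = f (permMat (π (h * k * h⁻¹)))
    simp only [map_mul, map_inv, hk]
    rw [hconj]
    simp only [map_mul, map_inv]⟩
  have hK0 : h0 ∈ K := by
    show φ h0 = f (permMat (π h0))
    rw [hφ0, ← hψ3, hh0, MonoidHom.comp_apply, emb3_cyc hn3 E hE]
    rfl
  have hKtop : K = ⊤ := top_le_iff.mp (hnc ▸ Subgroup.normalClosure_le_normal (by simpa using hK0))
  have hfac : f.comp Φ = q := by
    refine Monoid.Coprod.hom_ext (MonoidHom.ext fun h => ?_) (MonoidHom.ext fun s => ?_)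
    · show f (Φ (ι h)) = φ h
      rw [hΦι]
      exact (show h ∈ K from hKtop ▸ Subgroup.mem_top h).symm
    · show f (Φ (κ s)) = ψ3 s
      rw [hΦκ, ← hψ3]
      rfl
  have h1 : q c = f (Φ c) := (DFunLike.congr_fun hfac c).symm
  rw [hc, map_one] at h1
  exact (QuotientGroup.eq_one_iff c).mp h1

end Cfsg.Agent.SLShort
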