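import Cfsg.Agent.ShortPres.SLModel
import Cfsg.Agent.SteinbergSL.Pres
import Cfsg.Agent.AltMult.Alt

/-!
# `SL(3, F)` in the first three coordinates of `SL(n, F)`
-/

set_option autoImplicit false

namespace Cfsg.Agent.SLShort

open Matrix Cfsg.Agent.SLMult Cfsg.Agent.ShortPres Cfsg.Agent.CurtisTitsA Cfsg.Agent.AltMult
open scoped MatrixGroups

universe u

variable {F : Type u} [Field F] {n : ℕ}

theorem tx_mulVec {a b : Fin n} (h : a ≠ b) (c : F) (v : Fin n → F) (r : Fin n) :
    ((tx a b c).1 *ᵥ v) r = if r = a then v r + c * v b else v r := by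
  rw [tx_eq h, Matrix.SpecialLinearGroup.transvection_coe, add_mulVec, one_mulVec, Pi.add_apply,
    single_mulVec]
  by_cases hr : r = a
  · subst hr; simp
  · simp [hr]

/-- The Weyl element of two coordinates. -/
noncomputable def wel (a b : Fin n) : SpecialLinearGroup (Fin n) F :=
  tx a b 1 * tx b a (-1) * tx a b 1

theorem wel_mulVec {a b : Fin n} (h : a ≠ b) (v : Fin n → F) (r : Fin n) :
    ((wel a b : SpecialLinearGroup (Fin n) F).1 *ᵥ v) r =
      if r = a then v b else if r = b then -v a else v r := by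
  rw [wel, Matrix.SpecialLinearGroup.coe_mul, Matrix.SpecialLinearGroup.coe_mul,
    ← Matrix.mulVec_mulVec, ← Matrix.mulVec_mulVec]
  by_cases ra : r = a
  · subst ra
    simp [-Matrix.mulVec_mulVec, tx_mulVec h, tx_mulVec h.symm, h, h.symm]
  by_cases rb : r = b
  · subst rb
    simp [-Matrix.mulVec_mulVec, tx_mulVec h, tx_mulVec h.symm, h, h.symm]
  simp [-Matrix.mulVec_mulVec, tx_mulVec h, tx_mulVec h.symm, ra, rb]

theorem permMat_cyc {a b c : Fin n} (hab : a ≠ b) (hac : a ≠ c) (hbc : b ≠ c) :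
    (permMat (cycA a b c hab hac) : SpecialLinearGroup (Fin n) F) = wel b a * wel c b := by
  refine Classical.sl_ext_mulVec fun v => funext fun r => ?_
  rw [permMat_mulVec, Matrix.SpecialLinearGroup.coe_mul, ← Matrix.mulVec_mulVec]
  show v ((cyc a b c)⁻¹ r) = _
  rw [cyc_inv hab hac hbc]
  by_cases ra : r = a
  · subst ra
    simp [-Matrix.mulVec_mulVec, wel_mulVec hab.symm, wel_mulVec hbc.symm, hab, hab.symm, hac, hac.symm, hbc, hbc.symm,
      cyc_apply_mid]
  by_cases rb : r = b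
  · subst rb
    simp [-Matrix.mulVec_mulVec, wel_mulVec hab.symm, wel_mulVec hbc.symm, hab, hab.symm, hac, hac.symm, hbc, hbc.symm,
      cyc_apply_left hab.symm hac]
  by_cases rc : r = c
  · subst rc
    simp [-Matrix.mulVec_mulVec, wel_mulVec hab.symm, wel_mulVec hbc.symm, hab, hab.symm, hac, hac.symm, hbc, hbc.symm,
      cyc_apply_right hbc hac]
  simp [-Matrix.mulVec_mulVec, wel_mulVec hab.symm, wel_mulVec hbc.symm, ra, rb, rc, cyc_apply_of_ne rb ra rc]

/-- The first three coordinates. -/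
def pt3 (hn : 3 ≤ n) : Fin 3 ↪ Fin n := ⟨Fin.castLE hn, Fin.castLE_injective hn⟩

theorem exists_emb3 [Fintype F] (hn : 3 ≤ n) :
    ∃ E : SpecialLinearGroup (Fin 3) F →* SpecialLinearGroup (Fin n) F,
      ∀ a b, a ≠ b → ∀ c, E (tx a b c) = tx (pt3 hn a) (pt3 hn b) c := by
  have : Finite F := inferInstance
  obtain ⟨f, hf⟩ := SteinbergSL.exists_hom (K := F) (n := 3) le_rfl
    (fun a b c => (tx (pt3 hn a) (pt3 hn b) c : SpecialLinearGroup (Fin n) F))
    (fun i j h => tx_add ((pt3 hn).injective.ne h))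
    (fun i j k l h1 h2 h3 h4 a b => tx_comm ((pt3 hn).injective.ne h1) ((pt3 hn).injective.ne h2)
      ((pt3 hn).injective.ne h3) ((pt3 hn).injective.ne h4) a b)
    (fun i j k h1 h2 h3 a b => tx_rel ((pt3 hn).injective.ne h1) ((pt3 hn).injective.ne h2)
      ((pt3 hn).injective.ne h3) a b)
  exact ⟨f, fun a b h c => by rw [tx_eq h]; exact hf a b h c⟩

/-- The three-cycle of `Fin 3`. -/
def c3 : alternatingGroup (Fin 3) := cycA 0 1 2 (by decide) (by decide)

theorem emb3_cyc [Fintype F] (hn : 3 ≤ n)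
    (E : SpecialLinearGroup (Fin 3) F →* SpecialLinearGroup (Fin n) F)
    (hE : ∀ a b, a ≠ b → ∀ c, E (tx a b c) = tx (pt3 hn a) (pt3 hn b) c) :
    E (permMat c3) = permMat (cycA (pt3 hn 0) (pt3 hn 1) (pt3 hn 2)
      ((pt3 hn).injective.ne (by decide)) ((pt3 hn).injective.ne (by decide))) := by
  rw [c3, permMat_cyc (by decide) (by decide) (by decide),
    permMat_cyc ((pt3 hn).injective.ne (by decide)) ((pt3 hn).injective.ne (by decide))
      ((pt3 hn).injective.ne (by decide))]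
  simp only [wel, map_mul]
  rw [hE 1 0 (by decide), hE 0 1 (by decide), hE 2 1 (by decide), hE 1 2 (by decide)]

theorem emb3_emb [Fintype F] (hn : 3 ≤ n)
    (E : SpecialLinearGroup (Fin 3) F →* SpecialLinearGroup (Fin n) F)
    (hE : ∀ a b, a ≠ b → ∀ c, E (tx a b c) = tx (pt3 hn a) (pt3 hn b) c) {a b : Fin 3} (h : a ≠ b)
    (s : SL(2, F)) : E (emb h s) = emb ((pt3 hn).injective.ne h) s := by
  refine DFunLike.congr_fun (f := E.comp (emb (F := F) h))
    (g := emb (F := F) ((pt3 hn).injective.ne h)) ?_ s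
  refine hom_ext2 (fun c => ?_) fun c => ?_
  · rw [MonoidHom.comp_apply, emb_tx01, emb_tx01, hE a b h]
  · rw [MonoidHom.comp_apply, emb_tx10, emb_tx10, hE b a h.symm]

end Cfsg.Agent.SLShort
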